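import Mathlib
import Cfsg.Agent.Lib.DicksonFull.Main
import Cfsg.Agent.Lib.SL2Sylow
import Cfsg.Agent.Lib.PSL2.Aut

/-!
The facts on Sylow subgroups of `PSL₂(q)` in defining characteristic used in rank-one pushing up.
-/

set_option autoImplicit false

namespace CfsgLib.PushRankOne

open CfsgLib.PSL2 (mk uu vv uHom uSylow uu_injective)

variable {F : Type} [Field F] [Fintype F] (p : ℕ) [Fact p.Prime] [CharP F p]

local notation "SL" => Matrix.SpecialLinearGroup (Fin 2) F
local notation "PSL" => Matrix.ProjectiveSpecialLinearGroup (Fin 2) F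

/-- What is used of a group with the Sylow `p`-structure of `PSL₂(q)`. -/
structure SylowShape (X : Type*) [Group X] (p : ℕ) : Prop where
  ne_bot : ∀ P : Sylow p X, (P : Subgroup X) ≠ ⊥
  exists_ne : ∀ P : Sylow p X, ∃ P' : Sylow p X, P' ≠ P
  inf : ∀ P P' : Sylow p X, P ≠ P' → (P : Subgroup X) ⊓ P' = ⊥
  sup : ∀ P P' : Sylow p X, P ≠ P' → (P : Subgroup X) ⊔ P' = ⊤
  comm : ∀ P : Sylow p X, ∀ x ∈ (P : Subgroup X), ∀ y ∈ (P : Subgroup X), x * y = y * x
  exp : ∀ P : Sylow p X, ∀ x ∈ (P : Subgroup X), x ^ p = 1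
  irred : ∀ (P : Sylow p X) (U : Subgroup X), U ≤ P → U ≠ ⊥ →
    Subgroup.normalizer ((P : Subgroup X) : Set X) ≤ Subgroup.normalizer (U : Set X) → U = P

theorem exists_conj_uSylow (P : Sylow p PSL) :
    ∃ g : PSL, (P : Subgroup PSL) = (uHom : Multiplicative F →* PSL).range.map (MulAut.conj g).toMonoidHom := by
  obtain ⟨g, hg⟩ := MulAction.exists_smul_eq PSL (uSylow (F := F) p) P
  exact ⟨g, by rw [← hg]; rfl⟩

theorem exp_sylow (P : Sylow p PSL) {x : PSL} (hx : x ∈ (P : Subgroup PSL)) : x ^ p = 1 := by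
  obtain ⟨g, hg⟩ := exists_conj_uSylow p P
  rw [hg] at hx
  obtain ⟨_, ⟨t, rfl⟩, rfl⟩ := hx
  rw [← map_pow, ← map_pow]
  have : t ^ p = 1 := Multiplicative.toAdd.injective (by simp)
  rw [this, map_one, map_one]

theorem comm_sylow (P : Sylow p PSL) {x y : PSL} (hx : x ∈ (P : Subgroup PSL)) (hy : y ∈ (P : Subgroup PSL)) :
    x * y = y * x := by
  obtain ⟨g, hg⟩ := exists_conj_uSylow p P
  rw [hg] at hx hy
  obtain ⟨_, ⟨s, rfl⟩, rfl⟩ := hx
  obtain ⟨_, ⟨t, rfl⟩, rfl⟩ := hy
  rw [← map_mul, ← map_mul, ← map_mul, ← map_mul, mul_comm]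

include p in
theorem irred_uSylow (U : Subgroup PSL) (hU : U ≤ (uHom : Multiplicative F →* PSL).range) (hne : U ≠ ⊥)
    (hn : Subgroup.normalizer ((uHom : Multiplicative F →* PSL).range : Set PSL) ≤
      Subgroup.normalizer (U : Set PSL)) : U = (uHom : Multiplicative F →* PSL).range := by
  obtain ⟨x, hx, hx1⟩ := U.bot_or_exists_ne_one.resolve_left hne
  obtain ⟨t₀, rfl⟩ := hU hx
  have ht₀ : Multiplicative.toAdd t₀ ≠ 0 := fun h => hx1 (by
    rw [show t₀ = 1 from Multiplicative.toAdd.injective (by simpa using h), map_one])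
  let S : AddSubgroup F :=
    { carrier := {x | uu (x * Multiplicative.toAdd t₀) ∈ U}
      add_mem' := fun {a b} ha hb => by
        show uu _ ∈ U
        rw [add_mul, uu, ofAdd_add, map_mul]; exact U.mul_mem ha hb
      zero_mem' := by
        show uu _ ∈ U
        rw [zero_mul, uu, ofAdd_zero, map_one]; exact U.one_mem
      neg_mem' := fun {a} ha => by
        show uu _ ∈ U
        rw [neg_mul, uu, ofAdd_neg, map_inv]; exact U.inv_mem ha }
  have hsq : ∀ y : F, y ^ 2 ∈ S := by
    intro y
    by_cases hy : y = 0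
    · subst hy; simpa using S.zero_mem
    · have hd : mk (CfsgLib.PSL2.dSL y hy) ∈
          Subgroup.normalizer ((uHom : Multiplicative F →* PSL).range : Set PSL) := by
        have hle : (uHom : Multiplicative F →* PSL).range.map
            (MulAut.conj (mk (CfsgLib.PSL2.dSL y hy))).toMonoidHom ≤ (uHom : Multiplicative F →* PSL).range := by
          rintro _ ⟨_, ⟨s, rfl⟩, rfl⟩
          refine ⟨Multiplicative.ofAdd (y ^ 2 * Multiplicative.toAdd s), ?_⟩
          exact (CfsgLib.PSL2.mk_diag_conj_u y hy (Multiplicative.toAdd s)).symm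
        have heq := Subgroup.eq_of_le_of_card_ge hle
          (Subgroup.card_map_of_injective (MulEquiv.injective _)).ge
        rw [Subgroup.mem_normalizer_iff]
        intro z
        constructor
        · intro hz; exact hle ⟨z, hz, rfl⟩
        · intro hz
          rw [← heq] at hz
          obtain ⟨w, hw, hwz⟩ := hz
          simp only [MulEquiv.coe_toMonoidHom, MulAut.conj_apply, mul_left_inj, mul_right_inj] at hwz
          exact hwz ▸ hw
      have hu : uu (Multiplicative.toAdd t₀) ∈ U := by rw [uu, ofAdd_toAdd]; exact hx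
      have := (Subgroup.mem_normalizer_iff.mp (hn hd) _).mp hu
      rw [CfsgLib.PSL2.mk_diag_conj_u y hy] at this
      exact this
  refine le_antisymm hU ?_
  rintro _ ⟨t, rfl⟩
  have h := CfsgLib.PSL2.squares_generate (p := p) S hsq (Multiplicative.toAdd t / Multiplicative.toAdd t₀)
  have h' : uu (Multiplicative.toAdd t / Multiplicative.toAdd t₀ * Multiplicative.toAdd t₀) ∈ U := h
  rwa [div_mul_cancel₀ _ ht₀, uu, ofAdd_toAdd] at h'

theorem sylowShape : SylowShape PSL p where
  ne_bot P := by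
    obtain ⟨g, hg⟩ := exists_conj_uSylow p P
    intro hb
    rw [hg, Subgroup.map_eq_bot_iff_of_injective _ (MulEquiv.injective _)] at hb
    have h1 : uu (1 : F) = 1 := Subgroup.mem_bot.mp (hb ▸ ⟨_, rfl⟩)
    have := uu_injective (F := F) (a₁ := 1) (a₂ := 0) (by rw [h1, uu, ofAdd_zero, map_one])
    exact one_ne_zero this
  exists_ne P := by
    by_contra hall
    push Not at hall
    obtain ⟨Q, hQ⟩ : ∃ Q : Sylow p PSL, (CfsgLib.PSL2.vHom : Multiplicative F →* PSL).range ≤ Q := by
      refine IsPGroup.exists_le_sylow ?_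
      rintro ⟨_, t, rfl⟩
      refine ⟨1, Subtype.ext ?_⟩
      show (CfsgLib.PSL2.vHom t) ^ p ^ 1 = 1
      have : t ^ p = 1 := Multiplicative.toAdd.injective (by simp)
      rw [pow_one, ← map_pow, this, map_one]
    rw [hall Q, ← hall (uSylow (F := F) p)] at hQ
    have h := (CfsgLib.PSL2.mem_uRange_iff (CfsgLib.PSL2.vSL (1 : F))).mp (hQ ⟨Multiplicative.ofAdd 1, rfl⟩)
    simpa [CfsgLib.PSL2.coe_vSL] using h.1
  inf P P' hne := by
    by_contra h
    obtain ⟨x, ⟨hx, hx'⟩, hx1⟩ := Subgroup.bot_or_exists_ne_one _ |>.resolve_left h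
    have hord : orderOf x = p := orderOf_eq_prime (exp_sylow p P hx) hx1
    obtain ⟨R, hR⟩ := CfsgLib.DicksonFull.exists_sylow_cent p hord
    have key : ∀ P₀ : Sylow p PSL, x ∈ (P₀ : Subgroup PSL) → P₀ = R := by
      intro P₀ hx₀
      refine (Sylow.ext (P₀.3 R.2 ?_)).symm
      rw [hR]
      intro y hy
      exact CfsgLib.DicksonFull.mem_cent.mpr (comm_sylow p P₀ hy hx₀)
    exact hne ((key P hx).trans (key P' hx').symm)
  sup P P' hne := by
    have hsurj : Function.Surjective (mk : SL →* PSL) := QuotientGroup.mk'_surjective _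
    obtain ⟨R, hR⟩ := Sylow.mapSurjective_surjective (f := (mk : SL →* PSL)) hsurj p P
    obtain ⟨R', hR'⟩ := Sylow.mapSurjective_surjective (f := (mk : SL →* PSL)) hsurj p P'
    have hRR : R ≠ R' := fun e => hne (by rw [← hR, ← hR', e])
    rw [← hR, ← hR', Sylow.coe_mapSurjective, Sylow.coe_mapSurjective, ← Subgroup.map_sup,
      CfsgLib.SL2Sylow.sup_eq_top p R R' hRR]
    exact Subgroup.map_top_of_surjective _ hsurj
  comm P x hx y hy := comm_sylow p P hx hy
  exp P x hx := exp_sylow p P hx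
  irred P U hU hne hn := by
    obtain ⟨g, hg⟩ := exists_conj_uSylow p P
    set c := (MulAut.conj g : MulAut PSL) with hc
    have h1 : U.map c.symm.toMonoidHom = (uHom : Multiplicative F →* PSL).range := by
      refine irred_uSylow p _ ?_ ?_ ?_
      · rintro _ ⟨u, hu, rfl⟩
        have hu' : u ∈ (uHom : Multiplicative F →* PSL).range.map c.toMonoidHom := hg ▸ hU hu
        obtain ⟨w, hw, rfl⟩ := hu'
        simpa using hw
      · rwa [Ne, Subgroup.map_eq_bot_iff_of_injective _ (MulEquiv.injective _)]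
      · have hP : (P : Subgroup PSL).map c.symm.toMonoidHom = (uHom : Multiplicative F →* PSL).range := by
          rw [hg, Subgroup.map_map]
          ext x; simp [hc]
        have := Subgroup.map_mono (f := c.symm.toMonoidHom) hn
        rwa [Subgroup.map_normalizer_eq_of_bijective _ (MulEquiv.bijective _),
          Subgroup.map_normalizer_eq_of_bijective _ (MulEquiv.bijective _), hP] at this
    have := congrArg (Subgroup.map c.toMonoidHom) h1
    rw [Subgroup.map_map] at this
    rw [hg, ← this]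
    ext x; simp

end CfsgLib.PushRankOne
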