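import Mathlib
import Cfsg.Agent.Lib.Basic
import Cfsg.Agent.Lib.SylowExtra
import Cfsg.Agent.Lib.PushRankOne.PSLFacts

/-!
Rank-one pushing up: what is used of `G/K ≅ PSL₂(q)` and of the uniqueness of the maximal
subgroup over a Sylow subgroup.
-/

set_option autoImplicit false

namespace CfsgLib.PushRankOne

open Cfsg Subgroup

variable {G : Type*} [Group G] {p : ℕ}

/-- The rank-one pushing-up situation, abstractly. -/
structure Setting (S : Sylow p G) : Prop where
  charP : centralizer (pCore p G : Set G) ≤ pCore p G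
  core_le : pCore p G ≤ (S : Subgroup G)
  comm : ∀ x ∈ (S : Subgroup G), ∀ y ∈ (S : Subgroup G), x * y * x⁻¹ * y⁻¹ ∈ pCore p G
  exp : ∀ x ∈ (S : Subgroup G), x ^ p ∈ pCore p G
  exists_mem : ∃ x ∈ (S : Subgroup G), x ∉ pCore p G
  gen : ∃ g : G, ∀ x ∈ (S : Subgroup G), x ∉ pCore p G →
    Subgroup.closure {x} ⊔ (S : Subgroup G).map (MulAut.conj g).toMonoidHom = ⊤
  irred : ∀ R : Subgroup G, pCore p G ≤ R → R ≤ (S : Subgroup G) → R ≠ pCore p G →
    normalizer ((S : Subgroup G) : Set G) ≤ normalizer (R : Set G) → R = (S : Subgroup G)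
  normal_cases : ∀ L : Subgroup G, L.Normal →
    L ⊔ (S : Subgroup G) = ⊤ ∨ L ⊓ (S : Subgroup G) ≤ pCore p G

theorem closure_sup_eq_top {X : Type*} [Group X] [Finite X] [Fact p.Prime] (h : SylowShape X p)
    {P P' : Sylow p X} (hne : P ≠ P') {x : X} (hx : x ∈ (P : Subgroup X)) (hx1 : x ≠ 1) :
    Subgroup.closure {x} ⊔ (P' : Subgroup X) = ⊤ := by
  set Y := Subgroup.closure {x} ⊔ (P' : Subgroup X) with hY
  have hxY : x ∈ Y := Subgroup.mem_sup_left (Subgroup.subset_closure rfl)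
  have hle : (P' : Subgroup X) ≤ Y := le_sup_right
  have hX : IsPGroup p (Subgroup.zpowers (⟨x, hxY⟩ : Y)) := by
    rintro ⟨_, i, rfl⟩
    refine ⟨1, Subtype.ext (Subtype.ext ?_)⟩
    show (x ^ i) ^ p ^ 1 = 1
    rw [pow_one, ← zpow_natCast, ← zpow_mul, mul_comm, zpow_mul, zpow_natCast, h.exp P x hx, one_zpow]
  obtain ⟨R, hR⟩ := hX.exists_le_sylow
  obtain ⟨c, hc⟩ := MulAction.exists_smul_eq Y (P'.subtype hle) R
  have hxR : x ∈ ((((c : X)) • P' : Sylow p X) : Subgroup X) := by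
    have h1 : (⟨x, hxY⟩ : Y) ∈ ((c • P'.subtype hle : Sylow p Y) : Subgroup Y) := by
      rw [hc]; exact hR (Subgroup.mem_zpowers _)
    rw [Sylow.smul_subtype hle] at h1
    exact h1
  have hne' : (c : X) • P' ≠ P' := by
    intro e
    rw [e] at hxR
    exact hx1 (Subgroup.mem_bot.mp (h.inf P P' hne ▸ ⟨hx, hxR⟩))
  refine top_le_iff.mp ((h.sup _ _ hne').ge.trans (sup_le ?_ hle))
  exact Sylow.smul_le hle c

theorem setting_of_hom [Finite G] [Fact p.Prime] {X : Type*} [Group X] [Finite X] (hX : SylowShape X p)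
    (S : Sylow p G) (hE₁ : centralizer (pCore p G : Set G) ≤ pCore p G)
    (hE₂ : ∃! M : Subgroup G, IsCoatom M ∧ (S : Subgroup G) ≤ M) (f : G →* X) (hf : Function.Surjective f) :
    Setting S := by
  set Q := pCore p G with hQ
  haveI : Q.Normal := inferInstance
  have hQS : Q ≤ (S : Subgroup G) := CfsgLib.pCore_le_sylow S
  obtain ⟨M, ⟨hM, hSM⟩, huniq⟩ := hE₂
  have hleM : ∀ H : Subgroup G, (S : Subgroup G) ≤ H → H ≠ ⊤ → H ≤ M := by
    intro H hSH hH
    obtain ⟨M', hM', hle⟩ := (eq_top_or_exists_le_coatom H).resolve_left hH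
    exact huniq M' ⟨hM', hSH.trans hle⟩ ▸ hle
  have hcases : ∀ L : Subgroup G, L.Normal →
      L ⊔ (S : Subgroup G) = ⊤ ∨ L ⊓ (S : Subgroup G) ≤ Q := by
    intro L hL
    by_cases htop : L ⊔ (S : Subgroup G) = ⊤
    · exact Or.inl htop
    refine Or.inr ?_
    have hLM : L ≤ M := le_sup_left.trans (hleM _ le_sup_right htop)
    set P := CfsgLib.sylowInfNormal S L with hP
    have hmap : (P : Subgroup L).map L.subtype = L ⊓ (S : Subgroup G) := by
      rw [hP, CfsgLib.coe_sylowInfNormal, Subgroup.subgroupOf_map_subtype, inf_comm]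
    have hfr := Sylow.normalizer_sup_eq_top P
    rw [hmap] at hfr
    have hSN : (S : Subgroup G) ≤ normalizer ((L ⊓ (S : Subgroup G) : Subgroup G) : Set G) := by
      intro s hs
      rw [Subgroup.mem_normalizer_iff]
      intro x
      constructor
      · rintro ⟨h1, h2⟩
        exact ⟨hL.conj_mem x h1 s, (S : Subgroup G).mul_mem ((S : Subgroup G).mul_mem hs h2) ((S : Subgroup G).inv_mem hs)⟩
      · rintro ⟨h1, h2⟩
        have e : x = s⁻¹ * (s * x * s⁻¹) * (s⁻¹)⁻¹ := by group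
        rw [e]
        exact ⟨hL.conj_mem _ h1 _, (S : Subgroup G).mul_mem ((S : Subgroup G).mul_mem ((S : Subgroup G).inv_mem hs) h2) ((S : Subgroup G).inv_mem ((S : Subgroup G).inv_mem hs))⟩
    have hN : normalizer ((L ⊓ (S : Subgroup G) : Subgroup G) : Set G) = ⊤ := by
      by_contra hne
      exact hM.1 (top_le_iff.mp (hfr.ge.trans (sup_le (hleM _ hSN hne) hLM)))
    haveI : (L ⊓ (S : Subgroup G)).Normal := Subgroup.normalizer_eq_top_iff.mp hN
    exact CfsgLib.le_pCore (S.isPGroup'.to_le inf_le_right)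
  set P0 : Sylow p X := S.mapSurjective hf with hP0
  have hP0c : (P0 : Subgroup X) = (S : Subgroup G).map f := rfl
  obtain ⟨P1, hP1⟩ := hX.exists_ne P0
  have hKS : f.ker ⊔ (S : Subgroup G) ≠ ⊤ := by
    intro htop
    have h2 : (P0 : Subgroup X) = ⊤ := by
      have := congrArg (Subgroup.map f) htop
      rwa [Subgroup.map_sup, Subgroup.map_top_of_surjective f hf, (Subgroup.map_eq_bot_iff f.ker).mpr le_rfl,
        bot_sup_eq] at this
    exact hP1 (Sylow.ext ((P0.3 P1.2 (by
      intro z hz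
      exact absurd (h2 ▸ Subgroup.mem_top z) (fun hz' => hX.ne_bot P1 (by
        have := hX.inf P0 P1 (Ne.symm hP1)
        rwa [h2, top_inf_eq] at this))))))
  have hKM : f.ker ≤ M := le_sup_left.trans (hleM _ le_sup_right hKS)
  have hQK : Q ≤ f.ker := by
    intro q hq
    have hN : (Q.map f).Normal := Subgroup.Normal.map inferInstance f hf
    have hP : IsPGroup p (Q.map f) := (IsPGroup.of_injective (S.isPGroup'.to_le hQS) (MonoidHom.id _) (fun _ _ h => h)).map f
    have h0 : f q ∈ (P0 : Subgroup X) := ⟨q, hQS hq, rfl⟩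
    have h1 : f q ∈ (P1 : Subgroup X) := by
      haveI := hN
      exact (CfsgLib.le_pCore hP).trans (CfsgLib.pCore_le_sylow P1) ⟨q, hq, rfl⟩
    exact Subgroup.mem_bot.mp (hX.inf P0 P1 (Ne.symm hP1) ▸ ⟨h0, h1⟩)
  have hSK : ∀ x ∈ (S : Subgroup G), f x = 1 → x ∈ Q := by
    intro x hx hfx
    rcases hcases f.ker inferInstance with h | h
    · exact absurd h hKS
    · exact h ⟨hfx, hx⟩
  refine ⟨hE₁, hQS, fun x hx y hy => ?_, fun x hx => ?_, ?_, ?_, ?_, hcases⟩
  · refine hSK _ ?_ ?_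
    · exact (S : Subgroup G).mul_mem ((S : Subgroup G).mul_mem ((S : Subgroup G).mul_mem hx hy) ((S : Subgroup G).inv_mem hx)) ((S : Subgroup G).inv_mem hy)
    · rw [map_mul, map_mul, map_mul, map_inv, map_inv, hX.comm P0 (f x) ⟨x, hx, rfl⟩ (f y) ⟨y, hy, rfl⟩]
      group
  · exact hSK _ ((S : Subgroup G).pow_mem hx p) (by rw [map_pow]; exact hX.exp P0 _ ⟨x, hx, rfl⟩)
  · by_contra hne
    push Not at hne
    apply hX.ne_bot P0
    rw [hP0c, Subgroup.map_eq_bot_iff]
    exact fun x hx => hQK (hne x hx)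
  · obtain ⟨z, hz⟩ := MulAction.exists_smul_eq X P0 P1
    obtain ⟨g, rfl⟩ := hf z
    refine ⟨g, fun x hx hxQ => ?_⟩
    by_contra hne
    obtain ⟨M', hM', hle⟩ := (eq_top_or_exists_le_coatom _).resolve_left hne
    have hker : f.ker ≤ M' := by
      set c := (MulAut.conj g : MulAut G)
      have h1 : IsCoatom (M'.map c.symm.toMonoidHom) := by
        have := (c.symm.mapSubgroup).isCoatom_iff M' |>.mpr hM'
        simpa using this
      have h2 : (S : Subgroup G) ≤ M'.map c.symm.toMonoidHom := fun s hs =>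
        ⟨c s, hle (Subgroup.mem_sup_right ⟨s, hs, rfl⟩), c.symm_apply_apply s⟩
      intro k hk
      have hk' : c.symm k ∈ f.ker := by
        rw [MonoidHom.mem_ker] at hk ⊢
        simp [c, MulAut.conj_symm_apply, map_mul, map_inv, hk]
      obtain ⟨m, hm, hme⟩ := (huniq _ ⟨h1, h2⟩).ge (hKM hk')
      exact c.symm.injective hme ▸ hm
    have hfx : f x ≠ 1 := fun e => hxQ (hSK x hx e)
    have hnP : P0 ≠ P1 := Ne.symm hP1
    have htop : M'.map f = ⊤ := by
      refine top_le_iff.mp ((closure_sup_eq_top hX hnP ⟨x, hx, rfl⟩ hfx).ge.trans (sup_le ?_ ?_))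
      · exact (Subgroup.closure_le _).mpr (Set.singleton_subset_iff.mpr
          ⟨x, hle (Subgroup.mem_sup_left (Subgroup.subset_closure rfl)), rfl⟩)
      · rw [← hz]
        rintro _ ⟨_, ⟨s, hs, rfl⟩, rfl⟩
        exact ⟨g * s * g⁻¹, hle (Subgroup.mem_sup_right ⟨s, hs, rfl⟩), by simp [MulAut.smul_def, MulAut.conj_apply]⟩
    refine hM'.1 ?_
    have := congrArg (Subgroup.comap f) htop
    rwa [Subgroup.comap_map_eq, Subgroup.comap_top, sup_eq_left.mpr hker] at this
  · intro R hQR hRS hne hN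
    have h1 : R.map f = (P0 : Subgroup X) := by
      refine hX.irred P0 _ (Subgroup.map_mono hRS) ?_ ?_
      · rw [Ne, Subgroup.map_eq_bot_iff]
        exact fun h => hne (le_antisymm (fun r hr => hSK r (hRS hr) (h hr)) hQR)
      · intro y hy
        obtain ⟨a, rfl⟩ := hf y
        set J := f.ker ⊔ (S : Subgroup G) with hJ
        have hJc : J = (P0 : Subgroup X).comap f := by
          rw [hP0c, Subgroup.comap_map_eq, sup_comm]
        have hSa : ((a • S : Sylow p G) : Subgroup G) ≤ J := by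
          rintro _ ⟨s, hs, rfl⟩
          rw [hJc, Subgroup.mem_comap]
          have := (Subgroup.mem_normalizer_iff.mp hy (f s)).mp ⟨s, hs, rfl⟩
          simpa [MulAut.smul_def, MulAut.conj_apply] using this
        obtain ⟨c, hc⟩ := MulAction.exists_smul_eq J (S.subtype (le_sup_right : _ ≤ J)) ((a • S).subtype hSa)
        rw [Sylow.smul_subtype] at hc
        have hn : ((c : G)⁻¹ * a) ∈ normalizer ((S : Subgroup G) : Set G) := by
          refine Sylow.smul_eq_iff_mem_normalizer.mp ?_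
          rw [mul_smul, ← Sylow.subtype_injective hc]
          exact inv_smul_smul (c : G) S
        obtain ⟨s, hs, hse⟩ : f c ∈ (S : Subgroup G).map f := hP0c ▸ (hJc ▸ c.2 : (c : G) ∈ (P0 : Subgroup X).comap f)
        have hy' : f a ∈ (normalizer ((S : Subgroup G) : Set G)).map f := by
          refine ⟨s * ((c : G)⁻¹ * a), mul_mem (Subgroup.le_normalizer hs) hn, ?_⟩
          rw [map_mul, hse, map_mul, map_inv, mul_inv_cancel_left]
        exact (Subgroup.map_mono hN).trans (Subgroup.le_normalizer_map f) hy'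
    refine le_antisymm hRS fun s hs => ?_
    obtain ⟨r, hr, hre⟩ : f s ∈ R.map f := h1.symm ▸ (⟨s, hs, rfl⟩ : f s ∈ (P0 : Subgroup X))
    have hq : r⁻¹ * s ∈ Q := hSK _ ((S : Subgroup G).mul_mem ((S : Subgroup G).inv_mem (hRS hr)) hs) (by
      rw [map_mul, map_inv, hre, inv_mul_cancel])
    simpa using R.mul_mem hr (hQR hq)

theorem setting [Finite G] [Fact p.Prime] (S : Sylow p G) (hE₁ : centralizer (pCore p G : Set G) ≤ pCore p G)
    (hE₂ : ∃! M : Subgroup G, IsCoatom M ∧ (S : Subgroup G) ≤ M) (K : Subgroup G) [K.Normal] (F : Type) [Field F]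
    [Fintype F] (n : ℕ) (hn : 1 ≤ n) (hF : Fintype.card F = p ^ n)
    (hE₃ : Nonempty (G ⧸ K ≃* Matrix.ProjectiveSpecialLinearGroup (Fin 2) F)) : Setting S := by
  obtain ⟨e⟩ := hE₃
  haveI : CharP F p := charP_of_card_eq_prime_pow (f := n) hF
  exact setting_of_hom (sylowShape p) S hE₁ hE₂ (e.toMonoidHom.comp (QuotientGroup.mk' K))
    (e.surjective.comp (QuotientGroup.mk'_surjective K))

end CfsgLib.PushRankOne
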