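import Mathlib
import Cfsg.Agent.Lib.PushRankOne.Setting
import Cfsg.Agent.Lib.ZJ.Replacement

/-!
An offender on a normal abelian subgroup in the rank-one situation is the whole Sylow subgroup:
the fixed points have index `q`, and those of every element outside `O_p(G)` are the same.
-/

set_option autoImplicit false

namespace CfsgLib.PushRankOne

open Cfsg Subgroup
open scoped commutatorElement

variable {G : Type*} [Group G] {p : ℕ}

/-- Fixed points in `V`. -/
abbrev fx (V R : Subgroup G) : Subgroup G := V ⊓ centralizer (R : Set G)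

/-- A normal abelian subgroup centralized by `O_p(G)`, not by the Sylow subgroup. -/
structure Mdl (S : Sylow p G) (V : Subgroup G) : Prop where
  normal : V.Normal
  le : V ≤ pCore p G
  comm : ∀ a ∈ V, ∀ b ∈ V, a * b = b * a
  cent : ∀ v ∈ V, ∀ q ∈ pCore p G, q * v = v * q
  not_cent : ¬ (S : Subgroup G) ≤ centralizer (V : Set G)
  not_fix : ¬ fx V (S : Subgroup G) ≤ center G

theorem fx_sup (V R R' : Subgroup G) : fx V (R ⊔ R') = fx V R ⊓ fx V R' := by
  apply le_antisymm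
  · exact le_inf (inf_le_inf_left V (centralizer_le (SetLike.coe_subset_coe.mpr le_sup_left)))
      (inf_le_inf_left V (centralizer_le (SetLike.coe_subset_coe.mpr le_sup_right)))
  · rintro x ⟨⟨hV, h1⟩, -, h2⟩
    refine ⟨hV, fun y hy => ?_⟩
    have hle : R ⊔ R' ≤ centralizer {x} := sup_le
      (fun z hz => mem_centralizer_singleton_iff.mpr (h1 z hz))
      (fun z hz => mem_centralizer_singleton_iff.mpr (h2 z hz))
    exact mem_centralizer_singleton_iff.mp (hle hy)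

variable [Finite G] {S : Sylow p G} {V : Subgroup G}

theorem fx_anti {R R' : Subgroup G} (h : R ≤ R') : fx V R' ≤ fx V R :=
  inf_le_inf_left V (centralizer_le (SetLike.coe_subset_coe.mpr h))

theorem Mdl.fx_core (hV : Mdl S V) : fx V (pCore p G) = V :=
  le_antisymm inf_le_left (fun v hv => ⟨hv, fun q hq => hV.cent v hv q hq⟩)

theorem Mdl.mem_conj (hV : Mdl S V) {v : G} (hv : v ∈ V) (x : G) : x * v * x⁻¹ ∈ V := hV.normal.conj_mem v hv x

theorem Mdl.comm_mem (hV : Mdl S V) {v : G} (hv : v ∈ V) (x : G) : x * v * x⁻¹ * v⁻¹ ∈ V :=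
  V.mul_mem (hV.mem_conj hv x) (V.inv_mem hv)

theorem Mdl.act_comm (hS : Setting S) (hV : Mdl S V) {t u : G} (ht : t ∈ (S : Subgroup G))
    (hu : u ∈ (S : Subgroup G)) {v : G} (hv : v ∈ V) :
    t * (u * v * u⁻¹) * t⁻¹ = u * (t * v * t⁻¹) * u⁻¹ := by
  have hq : u⁻¹ * t⁻¹ * (u⁻¹)⁻¹ * (t⁻¹)⁻¹ ∈ pCore p G :=
    hS.comm _ ((S : Subgroup G).inv_mem hu) _ ((S : Subgroup G).inv_mem ht)
  have h := hV.cent v hv _ hq
  calc t * (u * v * u⁻¹) * t⁻¹
      = t * u * ((u⁻¹ * t⁻¹ * (u⁻¹)⁻¹ * (t⁻¹)⁻¹) * v * (u⁻¹ * t⁻¹ * (u⁻¹)⁻¹ * (t⁻¹)⁻¹)⁻¹) * (t * u)⁻¹ := by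
        rw [h]; group
    _ = u * (t * v * t⁻¹) * u⁻¹ := by group

/-- Counting through a fibred map. -/
theorem card_mul_le_of_fibres {T C W D : Subgroup G} (φ : G → G)
    (hmem : ∀ t ∈ T, ∀ c ∈ C, φ t * c ∈ W)
    (hfib : ∀ t ∈ T, ∀ s ∈ T, (φ s)⁻¹ * φ t ∈ C → s⁻¹ * t ∈ D) :
    Nat.card T * Nat.card C ≤ Nat.card W * Nat.card D := by
  classical
  let r : G → G := fun w => if h : ∃ t ∈ T, (φ t)⁻¹ * w ∈ C then h.choose else 1
  have hr : ∀ t ∈ T, ∀ c ∈ C, r (φ t * c) ∈ T ∧ (φ (r (φ t * c)))⁻¹ * (φ t * c) ∈ C := by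
    intro t ht c hc
    have h : ∃ s ∈ T, (φ s)⁻¹ * (φ t * c) ∈ C := ⟨t, ht, by simpa using hc⟩
    simp only [r, dif_pos h]
    exact h.choose_spec
  let Φ : T × C → W × D := fun x => (⟨φ x.1 * x.2, hmem _ x.1.2 _ x.2.2⟩,
    ⟨(r (φ x.1 * x.2))⁻¹ * x.1, hfib _ x.1.2 _ (hr _ x.1.2 _ x.2.2).1 (by
      have h := (hr _ x.1.2 _ x.2.2).2
      simpa [mul_assoc] using C.mul_mem h (C.inv_mem x.2.2))⟩)
  have hinj : Function.Injective Φ := by
    rintro ⟨t, c⟩ ⟨t', c'⟩ h
    simp only [Φ, Prod.mk.injEq, Subtype.mk.injEq] at h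
    obtain ⟨h1, h2⟩ := h
    rw [h1, mul_right_inj] at h2
    have e : t = t' := Subtype.ext h2
    subst e
    exact Prod.ext rfl (Subtype.ext (mul_left_cancel h1))
  simpa [Nat.card_prod] using Nat.card_le_card_of_injective Φ hinj

theorem card_fx_sup (hV : Mdl S V) (A B : Subgroup G) :
    Nat.card (fx V A) * Nat.card (fx V B) =
      Nat.card ↥(fx V A ⊔ fx V B) * Nat.card ↥(fx V A ⊓ fx V B) := by
  refine CfsgLib.ZJ.card_mul_eq_of_le_normalizer fun b hb => ?_
  rw [mem_normalizer_iff]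
  intro x
  have hcom : ∀ y ∈ V, b * y * b⁻¹ = y := fun y hy => by rw [hV.comm b hb.1 y hy, mul_inv_cancel_right]
  constructor
  · intro hx; rwa [hcom x hx.1]
  · intro hx
    have h1 : x ∈ V := by
      have := hV.mem_conj hx.1 b⁻¹
      simpa [mul_assoc] using this
    rwa [hcom x h1] at hx

theorem map_conj_eq_self_of_normal {N : Subgroup G} (hN : N.Normal) (x : G) :
    N.map (MulAut.conj x).toMonoidHom = N := by
  ext y
  constructor
  · rintro ⟨z, hz, rfl⟩
    exact hN.conj_mem z hz x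
  · intro hy
    exact ⟨x⁻¹ * y * (x⁻¹)⁻¹, hN.conj_mem y hy x⁻¹, by simp [mul_assoc]⟩

theorem card_fx_conj (hV : Mdl S V) (R : Subgroup G) (x : G) :
    Nat.card (fx V (R.map (MulAut.conj x).toMonoidHom)) = Nat.card (fx V R) := by
  have h : fx V (R.map (MulAut.conj x).toMonoidHom) = (fx V R).map (MulAut.conj x).toMonoidHom := by
    rw [Subgroup.map_inf _ _ _ (MulEquiv.injective _), map_conj_eq_self_of_normal hV.normal x]
    ext y
    simp only [mem_inf]
    refine and_congr_right fun _ => ?_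
    constructor
    · intro hy
      refine ⟨x⁻¹ * y * x, fun r hr => ?_, by simp [mul_assoc]⟩
      have := hy _ ⟨r, hr, rfl⟩
      simp only [MulEquiv.coe_toMonoidHom, MulAut.conj_apply] at this
      calc r * (x⁻¹ * y * x) = x⁻¹ * (x * r * x⁻¹ * y) * x := by group
        _ = x⁻¹ * (y * (x * r * x⁻¹)) * x := by rw [this]
        _ = x⁻¹ * y * x * r := by group
    · rintro ⟨z, hz, rfl⟩ _ ⟨r, hr, rfl⟩
      rw [← map_mul, ← map_mul, hz r hr]
  rw [h, Subgroup.card_map_of_injective (MulEquiv.injective _)]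

variable [Fact p.Prime]

theorem eq_bot_of_le_commutator {P K : Subgroup G} (hP : IsPGroup p P) (hK : K ≤ P) (h : K ≤ ⁅K, P⁆) : K = ⊥ := by
  obtain ⟨n, hn⟩ := (Subgroup.isNilpotent_iff_lowerCentralSeries P).mp hP.isNilpotent
  have key : ∀ i, K ≤ P.lowerCentralSeries i := by
    intro i
    induction i with
    | zero => simpa using hK
    | succ i ih =>
      rw [Subgroup.lowerCentralSeries_succ]
      exact h.trans (Subgroup.commutator_mono ih le_rfl)
  simpa [hn] using key n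

theorem Mdl.not_le_comm_sup (hV : Mdl S V) (hS : Setting S) :
    ¬ V ≤ ⁅V, (S : Subgroup G)⁆ ⊔ fx V (S : Subgroup G) := by
  intro hle
  haveI := hV.normal
  set K := ⁅V, (S : Subgroup G)⁆ with hK
  have hKV : K ≤ V := Subgroup.commutator_le_left _ _
  have hKS : K ≤ (S : Subgroup G) := hKV.trans (hV.le.trans hS.core_le)
  have hstep : K ≤ ⁅K, (S : Subgroup G)⁆ := by
    refine (Subgroup.commutator_le).mpr fun v hv s hs => ?_
    obtain ⟨a, ha, b, hb, rfl⟩ : ∃ a ∈ K, ∃ b ∈ fx V (S : Subgroup G), a * b = v := by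
      have hn : fx V (S : Subgroup G) ≤ normalizer (K : Set G) := by
        intro b hb
        rw [mem_normalizer_iff]
        intro x
        have hcom : ∀ y ∈ V, b * y * b⁻¹ = y := fun y hy => by rw [hV.comm b hb.1 y hy, mul_inv_cancel_right]
        constructor
        · intro hx; rwa [hcom x (hKV hx)]
        · intro hx
          have h1 : x ∈ V := by
            have := hV.mem_conj (hKV hx) b⁻¹
            simpa [mul_assoc] using this
          rwa [hcom x h1] at hx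
      have := hle hv
      rw [← SetLike.mem_coe, Subgroup.coe_mul_of_right_le_normalizer_left K _ hn] at this
      exact Set.mem_mul.mp this
    have hbs : Commute b s := (hb.2 s hs).symm
    have e : ⁅a * b, s⁆ = ⁅a, s⁆ := by
      rw [commutatorElement_def, commutatorElement_def, mul_assoc a b s, hbs.eq]; group
    rw [e]
    exact Subgroup.commutator_mem_commutator ha hs
  have hbot := eq_bot_of_le_commutator S.isPGroup' hKS hstep
  refine hV.not_cent fun s hs => ?_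
  rw [mem_centralizer_iff]
  intro v hv
  have : ⁅v, s⁆ ∈ K := Subgroup.commutator_mem_commutator hv hs
  rw [hbot, mem_bot, commutatorElement_eq_one_iff_mul_comm] at this
  exact this

/-- A maximiser of `|R||C_V(R)|`. -/
structure Best (S : Sylow p G) (V R : Subgroup G) (m : ℕ) : Prop where
  core_le : pCore p G ≤ R
  le : R ≤ (S : Subgroup G)
  ne : R ≠ pCore p G
  eq : Nat.card R * Nat.card (fx V R) = m

theorem normal_between (hS : Setting S) {R : Subgroup G} (hQ : pCore p G ≤ R) (hR : R ≤ (S : Subgroup G)) :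
    (S : Subgroup G) ≤ normalizer (R : Set G) := by
  intro s hs
  rw [mem_normalizer_iff]
  intro r
  constructor
  · intro hr
    simpa using R.mul_mem (hQ (hS.comm s hs r (hR hr))) hr
  · intro h
    have h1 : r ∈ (S : Subgroup G) := by
      have := (S : Subgroup G).mul_mem ((S : Subgroup G).mul_mem ((S : Subgroup G).inv_mem hs) (hR h)) hs
      simpa [mul_assoc] using this
    have h2 := R.mul_mem (R.inv_mem (hQ (hS.comm s hs r h1))) h
    simpa [mul_assoc] using h2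

theorem Best.inter (hS : Setting S) (hV : Mdl S V) {m : ℕ}
    (hmax : ∀ R : Subgroup G, pCore p G ≤ R → R ≤ (S : Subgroup G) → R ≠ pCore p G →
      Nat.card R * Nat.card (fx V R) ≤ m)
    (hm : Nat.card (pCore p G) * Nat.card V ≤ m) {R R' : Subgroup G} (h : Best S V R m) (h' : Best S V R' m) :
    Best S V (R ⊔ R') m ∧ Nat.card ↥(R ⊓ R') * Nat.card (fx V (R ⊓ R')) = m ∧
      fx V (R ⊓ R') = fx V R ⊔ fx V R' := by
  have hsup : R ⊔ R' ≠ pCore p G := fun e => h.ne (le_antisymm (e ▸ le_sup_left) h.core_le)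
  have hle := hmax (R ⊔ R') (h.core_le.trans le_sup_left) (sup_le h.le h'.le) hsup
  have hinf : Nat.card ↥(R ⊓ R') * Nat.card (fx V (R ⊓ R')) ≤ m := by
    by_cases e : R ⊓ R' = pCore p G
    · rw [e, hV.fx_core]; exact hm
    · exact hmax _ (le_inf h.core_le h'.core_le) (inf_le_left.trans h.le) e
  have e1 := CfsgLib.ZJ.card_mul_eq_of_le_normalizer (H := R) (K := R') (h'.le.trans (normal_between hS h.core_le h.le))
  have e2 := card_fx_sup hV R R'
  rw [← fx_sup] at e2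
  have hsub : fx V R ⊔ fx V R' ≤ fx V (R ⊓ R') := sup_le (fx_anti inf_le_left) (fx_anti inf_le_right)
  have hc := Subgroup.card_le_of_le hsub
  have key : m * m ≤ (Nat.card ↥(R ⊔ R') * Nat.card (fx V (R ⊔ R'))) *
      (Nat.card ↥(R ⊓ R') * Nat.card ↥(fx V R ⊔ fx V R')) := by
    apply le_of_eq
    calc m * m = (Nat.card R * Nat.card (fx V R)) * (Nat.card R' * Nat.card (fx V R')) := by rw [h.eq, h'.eq]
      _ = (Nat.card R * Nat.card R') * (Nat.card (fx V R) * Nat.card (fx V R')) := by ring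
      _ = _ := by rw [e1, e2]; ring
  have hpos : 0 < m := by rw [← h.eq]; exact Nat.mul_pos Nat.card_pos Nat.card_pos
  set A := Nat.card ↥(R ⊔ R') * Nat.card (fx V (R ⊔ R'))
  set B := Nat.card ↥(R ⊓ R') * Nat.card ↥(fx V R ⊔ fx V R')
  set B' := Nat.card ↥(R ⊓ R') * Nat.card (fx V (R ⊓ R'))
  have hB : B ≤ B' := Nat.mul_le_mul le_rfl hc
  have hA : A = m := by nlinarith
  have hBm : B = m := by nlinarith
  refine ⟨⟨h.core_le.trans le_sup_left, sup_le h.le h'.le, hsup, hA⟩, le_antisymm hinf (hBm.ge.trans hB), ?_⟩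
  refine (Subgroup.eq_of_le_of_card_ge hsub ?_).symm
  have : B' ≤ B := hinf.trans hBm.ge
  exact Nat.le_of_mul_le_mul_left this Nat.card_pos

theorem exists_best (hS : Setting S) (hV : Mdl S V)
    (hoff : ∃ R : Subgroup G, pCore p G ≤ R ∧ R ≤ (S : Subgroup G) ∧ R ≠ pCore p G ∧
      Nat.card (pCore p G) * Nat.card V ≤ Nat.card R * Nat.card (fx V R)) :
    ∃ m, Nat.card (pCore p G) * Nat.card V ≤ m ∧ Best S V (S : Subgroup G) m ∧
      ∀ R : Subgroup G, pCore p G ≤ R → R ≤ (S : Subgroup G) → R ≠ pCore p G →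
        Nat.card R * Nat.card (fx V R) ≤ m := by
  classical
  obtain ⟨R₀, h0, h1, h2, h3⟩ := hoff
  obtain ⟨R₁, hR₁, hmax⟩ := Set.exists_max_image
    {R : Subgroup G | pCore p G ≤ R ∧ R ≤ (S : Subgroup G) ∧ R ≠ pCore p G}
    (fun R => Nat.card R * Nat.card (fx V R)) (Set.toFinite _) ⟨R₀, h0, h1, h2⟩
  set m := Nat.card R₁ * Nat.card (fx V R₁) with hm
  have hle : ∀ R : Subgroup G, pCore p G ≤ R → R ≤ (S : Subgroup G) → R ≠ pCore p G →
      Nat.card R * Nat.card (fx V R) ≤ m := fun R a b c => hmax R ⟨a, b, c⟩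
  have hm0 := h3.trans (hle R₀ h0 h1 h2)
  refine ⟨m, hm0, ?_, hle⟩
  obtain ⟨U, hU, hUmax⟩ := Set.exists_max_image {R : Subgroup G | Best S V R m} (fun R => Nat.card R)
    (Set.toFinite _) ⟨R₁, hR₁.1, hR₁.2.1, hR₁.2.2, rfl⟩
  have hUeq : U = (S : Subgroup G) := by
    refine hS.irred U hU.core_le hU.le hU.ne fun x hx => ?_
    have hbest : Best S V (U.map (MulAut.conj x).toMonoidHom) m := by
      have hQx : (pCore p G).map (MulAut.conj x).toMonoidHom = pCore p G :=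
        map_conj_eq_self_of_normal inferInstance x
      refine ⟨hQx.ge.trans (Subgroup.map_mono hU.core_le), ?_, fun e => hU.ne ?_, ?_⟩
      · rintro _ ⟨u, hu, rfl⟩
        exact (mem_normalizer_iff.mp hx u).mp (hU.le hu)
      · exact Subgroup.map_injective (MulEquiv.injective _) (e.trans hQx.symm)
      · rw [Subgroup.card_map_of_injective (MulEquiv.injective _), card_fx_conj hV, hU.eq]
    obtain ⟨hj, -, -⟩ := Best.inter hS hV hle hm0 hU hbest
    have e1 : U ⊔ U.map (MulAut.conj x).toMonoidHom = U :=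
      (Subgroup.eq_of_le_of_card_ge le_sup_left (hUmax _ hj)).symm
    have e2 : U.map (MulAut.conj x).toMonoidHom = U :=
      Subgroup.eq_of_le_of_card_ge (sup_eq_left.mp e1)
        (Subgroup.card_map_of_injective (MulEquiv.injective _)).ge
    rw [mem_normalizer_iff]
    intro y
    constructor
    · intro hy; exact e2 ▸ ⟨y, hy, rfl⟩
    · intro hy
      rw [← e2] at hy
      obtain ⟨z, hz, hzy⟩ := hy
      simp only [MulEquiv.coe_toMonoidHom, MulAut.conj_apply, mul_left_inj, mul_right_inj] at hzy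
      exact hzy ▸ hz
  exact hUeq ▸ hU

/-- The set whose centralizer in `S` is the replacement subgroup at `w`. -/
def cset (S : Sylow p G) (w : G) : Set G := {y | ∃ u ∈ (S : Subgroup G), y = u * w * u⁻¹ * w⁻¹}

theorem best_replace (hS : Setting S) (hV : Mdl S V) {m : ℕ} (hm : Nat.card (pCore p G) * Nat.card V ≤ m)
    (hb : Best S V (S : Subgroup G) m)
    (hmax : ∀ R : Subgroup G, pCore p G ≤ R → R ≤ (S : Subgroup G) → R ≠ pCore p G →
      Nat.card R * Nat.card (fx V R) ≤ m) {w : G} (hw : w ∈ V) :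
    Best S V ((S : Subgroup G) ⊓ centralizer (cset S w)) m ∧
      fx V ((S : Subgroup G) ⊓ centralizer (cset S w)) ≤ ⁅V, (S : Subgroup G)⁆ ⊔ fx V (S : Subgroup G) := by
  set D := (S : Subgroup G) ⊓ centralizer (cset S w) with hD
  have hQD : pCore p G ≤ D := fun q hq => ⟨hS.core_le hq, by
    rintro _ ⟨u, hu, rfl⟩
    exact (hV.cent _ (hV.comm_mem hw u) q hq).symm⟩
  set Wd := Subgroup.closure (cset S w) ⊔ fx V (S : Subgroup G) with hWd
  have hWB : Wd ≤ ⁅V, (S : Subgroup G)⁆ ⊔ fx V (S : Subgroup G) := by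
    refine sup_le_sup_right ((Subgroup.closure_le _).mpr ?_) _
    rintro _ ⟨u, hu, rfl⟩
    rw [SetLike.mem_coe, Subgroup.commutator_comm]
    exact Subgroup.commutator_mem_commutator hu hw
  have hWfx : Wd ≤ fx V D := by
    refine sup_le ((Subgroup.closure_le _).mpr ?_) (fx_anti inf_le_left)
    rintro _ ⟨u, hu, rfl⟩
    exact ⟨hV.comm_mem hw u, fun d hd => (hd.2 _ ⟨u, hu, rfl⟩).symm⟩
  have hcount := card_mul_le_of_fibres (T := (S : Subgroup G)) (C := fx V (S : Subgroup G)) (W := Wd) (D := D)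
    (fun t => t * w * t⁻¹ * w⁻¹)
    (fun t ht c hc => Wd.mul_mem (Subgroup.mem_sup_left (Subgroup.subset_closure ⟨t, ht, rfl⟩))
      (Subgroup.mem_sup_right hc))
    (fun t ht s hs hc => by
      refine ⟨(S : Subgroup G).mul_mem ((S : Subgroup G).inv_mem hs) ht, ?_⟩
      rintro _ ⟨u, hu, rfl⟩
      set a := t * w * t⁻¹ * w⁻¹ with ha
      set b := s * w * s⁻¹ * w⁻¹ with hb'
      set c := u * w * u⁻¹ * w⁻¹ with hc'
      have hfix : u * (b⁻¹ * a) * u⁻¹ = b⁻¹ * a := by rw [hc.2 u hu, mul_inv_cancel_right]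
      -- the derivations attached to commuting elements commute
      have key : ∀ t ∈ (S : Subgroup G),
          u * (t * w * t⁻¹ * w⁻¹) * u⁻¹ * (t * w * t⁻¹ * w⁻¹)⁻¹ = t * c * t⁻¹ * c⁻¹ := by
        intro t ht
        have h1 := Mdl.act_comm hS hV ht hu hw
        calc u * (t * w * t⁻¹ * w⁻¹) * u⁻¹ * (t * w * t⁻¹ * w⁻¹)⁻¹
            = (u * (t * w * t⁻¹) * u⁻¹) * ((u * w * u⁻¹)⁻¹ * w) * (t * w * t⁻¹)⁻¹ := by group
          _ = (u * (t * w * t⁻¹) * u⁻¹) * ((t * w * t⁻¹)⁻¹ * ((u * w * u⁻¹)⁻¹ * w)) := by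
              rw [mul_assoc, hV.comm ((u * w * u⁻¹)⁻¹ * w) (V.mul_mem (V.inv_mem (hV.mem_conj hw u)) hw)
                (t * w * t⁻¹)⁻¹ (V.inv_mem (hV.mem_conj hw t))]
          _ = (t * (u * w * u⁻¹) * t⁻¹) * ((t * w * t⁻¹)⁻¹ * (w * (u * w * u⁻¹)⁻¹)) := by
              rw [← h1, hV.comm ((u * w * u⁻¹)⁻¹) (V.inv_mem (hV.mem_conj hw u)) w hw]
          _ = t * c * t⁻¹ * c⁻¹ := by rw [hc']; group
      have hab : u * a * u⁻¹ * a⁻¹ = u * b * u⁻¹ * b⁻¹ := by
        have h2 : b * (u * b⁻¹ * u⁻¹) = b⁻¹⁻¹ * (u * b⁻¹ * u⁻¹) := by rw [inv_inv]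
        calc u * a * u⁻¹ * a⁻¹ = (u * b * u⁻¹) * (u * (b⁻¹ * a) * u⁻¹) * a⁻¹ := by group
          _ = u * b * u⁻¹ * b⁻¹ := by rw [hfix]; group
      rw [key t ht, key s hs, mul_left_inj] at hab
      show c * (s⁻¹ * t) = s⁻¹ * t * c
      calc c * (s⁻¹ * t) = s⁻¹ * (s * c * s⁻¹) * t := by group
        _ = s⁻¹ * (t * c * t⁻¹) * t := by rw [hab]
        _ = s⁻¹ * t * c := by group)
  rw [hb.eq] at hcount
  have hcount' : m ≤ Nat.card D * Nat.card (fx V D) := by
    rw [mul_comm]; exact hcount.trans (Nat.mul_le_mul (Subgroup.card_le_of_le hWfx) le_rfl)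
  have hne : D ≠ pCore p G := by
    intro e
    refine hV.not_le_comm_sup hS (le_trans ?_ hWB)
    refine (Subgroup.eq_of_le_of_card_ge (hWfx.trans inf_le_left) ?_).ge
    rw [e] at hcount
    exact Nat.le_of_mul_le_mul_right ((mul_comm (Nat.card V) _).trans_le (hm.trans hcount)) Nat.card_pos
  have hDeq : Nat.card D * Nat.card (fx V D) = m := le_antisymm (hmax D hQD inf_le_left hne) hcount'
  refine ⟨⟨hQD, inf_le_left, hne, hDeq⟩, le_trans ?_ hWB⟩
  refine (Subgroup.eq_of_le_of_card_ge hWfx ?_).ge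
  refine Nat.le_of_mul_le_mul_left ?_ (Nat.card_pos (α := D))
  rw [hDeq, mul_comm]
  exact hcount

theorem quadratic (hS : Setting S) (hV : Mdl S V)
    (hoff : ∃ R : Subgroup G, pCore p G ≤ R ∧ R ≤ (S : Subgroup G) ∧ R ≠ pCore p G ∧
      Nat.card (pCore p G) * Nat.card V ≤ Nat.card R * Nat.card (fx V R)) :
    ∀ t ∈ (S : Subgroup G), ∀ w ∈ V, t * w * t⁻¹ * w⁻¹ ∈ fx V (S : Subgroup G) := by
  classical
  obtain ⟨m, hm, hb, hmax⟩ := exists_best hS hV hoff
  set B := ⁅V, (S : Subgroup G)⁆ ⊔ fx V (S : Subgroup G) with hB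
  have step : ∀ s : Finset G, (∀ w ∈ s, w ∈ V) → ∃ R, Best S V R m ∧ fx V R ≤ B ∧
      ∀ w ∈ s, R ≤ centralizer (cset S w) := by
    intro s
    induction s using Finset.induction_on with
    | empty => exact fun _ => ⟨_, hb, le_sup_right, fun w hw => absurd hw (Finset.notMem_empty w)⟩
    | @insert w s _ ih =>
      intro hs
      obtain ⟨R, hR, hRB, hRc⟩ := ih fun x hx => hs x (Finset.mem_insert_of_mem hx)
      obtain ⟨hD, hDB⟩ := best_replace hS hV hm hb hmax (hs w (Finset.mem_insert_self w s))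
      set D := (S : Subgroup G) ⊓ centralizer (cset S w)
      obtain ⟨-, he, hf⟩ := Best.inter hS hV hmax hm hR hD
      have hle : fx V (R ⊓ D) ≤ B := hf ▸ sup_le hRB hDB
      have hne : R ⊓ D ≠ pCore p G := fun e => hV.not_le_comm_sup hS (by
        rw [e, hV.fx_core] at hle; exact hle)
      refine ⟨R ⊓ D, ⟨le_inf hR.core_le hD.core_le, inf_le_left.trans hR.le, hne, he⟩, hle, ?_⟩
      intro x hx
      rcases Finset.mem_insert.mp hx with rfl | hx
      · exact inf_le_right.trans inf_le_right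
      · exact inf_le_left.trans (hRc x hx)
  haveI := Fintype.ofFinite G
  obtain ⟨R, hR, -, hRc⟩ := step (Finset.univ.filter fun w => w ∈ V) (fun w hw => (Finset.mem_filter.mp hw).2)
  let U : Subgroup G :=
    { carrier := {t | t ∈ (S : Subgroup G) ∧ ∀ w ∈ V, t * w * t⁻¹ * w⁻¹ ∈ fx V (S : Subgroup G)}
      one_mem' := ⟨(S : Subgroup G).one_mem, fun w _ => by simpa using (fx V (S : Subgroup G)).one_mem⟩
      mul_mem' := fun {a b} ha hb => ⟨(S : Subgroup G).mul_mem ha.1 hb.1, fun w hw => by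
        have h1 := hb.2 w hw
        have h2 : a * (b * w * b⁻¹ * w⁻¹) * a⁻¹ = b * w * b⁻¹ * w⁻¹ := by
          rw [h1.2 a ha.1, mul_inv_cancel_right]
        have e : a * b * w * (a * b)⁻¹ * w⁻¹ =
            (a * (b * w * b⁻¹ * w⁻¹) * a⁻¹) * (a * w * a⁻¹ * w⁻¹) := by group
        rw [e, h2]
        exact mul_mem h1 (ha.2 w hw)⟩
      inv_mem' := fun {a} ha => ⟨(S : Subgroup G).inv_mem ha.1, fun w hw => by
        have h1 := ha.2 w hw
        have h2 : a⁻¹ * (a * w * a⁻¹ * w⁻¹) * a = a * w * a⁻¹ * w⁻¹ := by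
          have h3 := h1.2 a ha.1
          rw [mul_assoc, ← h3, ← mul_assoc, inv_mul_cancel, one_mul]
        have e : a⁻¹ * w * a⁻¹⁻¹ * w⁻¹ = (a⁻¹ * (a * w * a⁻¹ * w⁻¹) * a)⁻¹ := by group
        rw [e, h2]
        exact inv_mem h1⟩ }
  have hQU : pCore p G ≤ U := fun q hq => ⟨hS.core_le hq, fun w hw => by
    rw [hV.cent w hw q hq, mul_inv_cancel_right, mul_inv_cancel]; exact one_mem _⟩
  have hRU : R ≤ U := by
    intro b hb'
    refine ⟨hR.le hb', fun w hw => ⟨hV.comm_mem hw b, fun t ht => ?_⟩⟩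
    have hfix := hRc w (Finset.mem_filter.mpr ⟨Finset.mem_univ w, hw⟩) hb' (t * w * t⁻¹ * w⁻¹) ⟨t, ht, rfl⟩
    have h1 := Mdl.act_comm hS hV (hR.le hb') ht hw
    have hv1 : w⁻¹ * (t * w * t⁻¹) * (b * w * b⁻¹)⁻¹ ∈ V :=
      V.mul_mem (V.mul_mem (V.inv_mem hw) (hV.mem_conj hw t)) (V.inv_mem (hV.mem_conj hw b))
    suffices h : t * (b * w * b⁻¹ * w⁻¹) * t⁻¹ = b * w * b⁻¹ * w⁻¹ by
      calc t * (b * w * b⁻¹ * w⁻¹) = t * (b * w * b⁻¹ * w⁻¹) * t⁻¹ * t := by group
        _ = _ := by rw [h]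
    have hbfix : b * (t * w * t⁻¹ * w⁻¹) * b⁻¹ = t * w * t⁻¹ * w⁻¹ := by
      rw [← hfix, mul_inv_cancel_right]
    calc t * (b * w * b⁻¹ * w⁻¹) * t⁻¹
        = (t * (b * w * b⁻¹) * t⁻¹) * (t * w * t⁻¹)⁻¹ := by group
      _ = (b * (t * w * t⁻¹) * b⁻¹) * (t * w * t⁻¹)⁻¹ := by rw [h1]
      _ = (b * (t * w * t⁻¹ * w⁻¹) * b⁻¹) * (b * w * b⁻¹) * (t * w * t⁻¹)⁻¹ := by group
      _ = (t * w * t⁻¹ * w⁻¹) * (b * w * b⁻¹) * (t * w * t⁻¹)⁻¹ := by rw [hbfix]
      _ = t * w * t⁻¹ * (w⁻¹ * (b * w * b⁻¹)) * (t * w * t⁻¹)⁻¹ := by group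
      _ = (w⁻¹ * (b * w * b⁻¹)) * (t * w * t⁻¹) * (t * w * t⁻¹)⁻¹ := by
          rw [hV.comm (t * w * t⁻¹) (hV.mem_conj hw t) (w⁻¹ * (b * w * b⁻¹)) (V.mul_mem (V.inv_mem hw) (hV.mem_conj hw b))]
      _ = b * w * b⁻¹ * w⁻¹ := by
          rw [mul_inv_cancel_right, hV.comm w⁻¹ (V.inv_mem hw) (b * w * b⁻¹) (hV.mem_conj hw b)]
  have hUS : U = (S : Subgroup G) := by
    refine hS.irred U hQU (fun x hx => hx.1) (fun e => hR.ne (le_antisymm (e ▸ hRU) hR.core_le)) fun x hx => ?_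
    have key : ∀ y ∈ normalizer ((S : Subgroup G) : Set G), ∀ u ∈ U, y * u * y⁻¹ ∈ U := by
      intro y hy u hu
      refine ⟨(mem_normalizer_iff.mp hy u).mp hu.1, fun w hw => ?_⟩
      have hw' : y⁻¹ * w * y ∈ V := by simpa using hV.mem_conj hw y⁻¹
      have h := hu.2 _ hw'
      refine ⟨hV.comm_mem hw _, fun t ht => ?_⟩
      have ht' : y⁻¹ * t * y ∈ (S : Subgroup G) := by
        have := (mem_normalizer_iff.mp (inv_mem hy) t).mp ht
        simpa using this
      have h' := h.2 _ ht'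
      calc t * (y * u * y⁻¹ * w * (y * u * y⁻¹)⁻¹ * w⁻¹)
          = y * ((y⁻¹ * t * y) * (u * (y⁻¹ * w * y) * u⁻¹ * (y⁻¹ * w * y)⁻¹)) * y⁻¹ := by group
        _ = y * ((u * (y⁻¹ * w * y) * u⁻¹ * (y⁻¹ * w * y)⁻¹) * (y⁻¹ * t * y)) * y⁻¹ := by rw [h']
        _ = _ := by group
    rw [mem_normalizer_iff]
    intro u
    refine ⟨key x hx u, fun hu => ?_⟩
    have := key x⁻¹ (inv_mem hx) _ hu
    simpa [mul_assoc] using this
  intro t ht
  exact (hUS.ge ht).2

/-- The conclusion: `|V : C_V(S)| = |S : Q|`, the fixed points of an element outside `Q` are those of `S`. -/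
structure Nat2 (S : Sylow p G) (V : Subgroup G) (g : G) : Prop where
  quad : ∀ t ∈ (S : Subgroup G), ∀ w ∈ V, t * w * t⁻¹ * w⁻¹ ∈ fx V (S : Subgroup G)
  index : Nat.card (S : Subgroup G) * Nat.card (fx V (S : Subgroup G)) = Nat.card (pCore p G) * Nat.card V
  fixed : ∀ x ∈ (S : Subgroup G), x ∉ pCore p G → ∀ v ∈ V, x * v = v * x → v ∈ fx V (S : Subgroup G)
  inf : fx V (S : Subgroup G) ⊓ fx V ((S : Subgroup G).map (MulAut.conj g).toMonoidHom) ≤ center G
  sup : fx V (S : Subgroup G) ⊔ fx V ((S : Subgroup G).map (MulAut.conj g).toMonoidHom) = V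

theorem natural (hS : Setting S) (hV : Mdl S V)
    (hoff : ∃ R : Subgroup G, pCore p G ≤ R ∧ R ≤ (S : Subgroup G) ∧ R ≠ pCore p G ∧
      Nat.card (pCore p G) * Nat.card V ≤ Nat.card R * Nat.card (fx V R)) :
    ∃ g : G, (∀ x ∈ (S : Subgroup G), x ∉ pCore p G →
      Subgroup.closure {x} ⊔ (S : Subgroup G).map (MulAut.conj g).toMonoidHom = ⊤) ∧ Nat2 S V g := by
  obtain ⟨g, hg⟩ := hS.gen
  refine ⟨g, hg, ?_⟩
  have hquad := quadratic hS hV hoff
  obtain ⟨m, hm, hb, hmax⟩ := exists_best hS hV hoff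
  set Sg := (S : Subgroup G).map (MulAut.conj g).toMonoidHom with hSg
  set F := fx V (S : Subgroup G) with hF
  set F' := fx V Sg with hF'
  set W0 := V ⊓ center G with hW0
  have hcommute_of : ∀ {x v : G}, v ∈ F' → x ∈ (S : Subgroup G) → x ∉ pCore p G → x * v = v * x → v ∈ W0 := by
    intro x v hv hx hxQ hxv
    have h : Subgroup.closure {x} ⊔ Sg ≤ centralizer {v} := by
      refine sup_le ((Subgroup.closure_le _).mpr (Set.singleton_subset_iff.mpr
        (mem_centralizer_singleton_iff.mpr hxv))) fun y hy => mem_centralizer_singleton_iff.mpr (hv.2 y hy)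
    rw [hg x hx hxQ] at h
    exact ⟨hv.1, Subgroup.mem_center_iff.mpr fun y => mem_centralizer_singleton_iff.mp (h (mem_top y))⟩
  have hW0F : ∀ R, W0 ≤ fx V R := fun R v hv => ⟨hv.1, fun y _ => (Subgroup.mem_center_iff.mp hv.2 y)⟩
  obtain ⟨x₀, hx₀, hx₀Q⟩ := hS.exists_mem
  have hinf : F ⊓ F' = W0 :=
    le_antisymm (fun v hv => hcommute_of hv.2 hx₀ hx₀Q (hv.1.2 x₀ hx₀)) (le_inf (hW0F _) (hW0F _))
  have hlem : ∀ {x v : G}, v ∈ F' → x ∈ (S : Subgroup G) → x ∉ pCore p G →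
      x * v * x⁻¹ * v⁻¹ ∈ W0 → v ∈ W0 := by
    intro x v hv hx hxQ hxv
    let H : Subgroup G :=
      { carrier := {y | y * v * y⁻¹ * v⁻¹ ∈ W0}
        one_mem' := by simpa using W0.one_mem
        mul_mem' := fun {a b} ha hb => by
          show a * b * v * (a * b)⁻¹ * v⁻¹ ∈ W0
          have e : a * b * v * (a * b)⁻¹ * v⁻¹ = (a * (b * v * b⁻¹ * v⁻¹) * a⁻¹) * (a * v * a⁻¹ * v⁻¹) := by group
          rw [e, Subgroup.mem_center_iff.mp hb.2 a, mul_inv_cancel_right]
          exact W0.mul_mem hb ha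
        inv_mem' := fun {a} ha => by
          show a⁻¹ * v * a⁻¹⁻¹ * v⁻¹ ∈ W0
          have e : a⁻¹ * v * a⁻¹⁻¹ * v⁻¹ = a⁻¹ * (a * v * a⁻¹ * v⁻¹)⁻¹ * a := by group
          rw [e, Subgroup.mem_center_iff.mp (inv_mem ha.2) a⁻¹, mul_assoc, inv_mul_cancel, mul_one]
          exact W0.inv_mem ha }
    have hH : H = ⊤ := top_le_iff.mp ((hg x hx hxQ).ge.trans (sup_le
      ((Subgroup.closure_le _).mpr (Set.singleton_subset_iff.mpr hxv))
      (fun y hy => by
        show y * v * y⁻¹ * v⁻¹ ∈ W0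
        rw [hv.2 y hy, mul_inv_cancel_right, mul_inv_cancel]; exact W0.one_mem)))
    refine hcommute_of hv hx hxQ ?_
    -- the homomorphism `y ↦ [y, v]` is constant on classes
    have hga : g * v * g⁻¹ * v⁻¹ ∈ W0 := (hH.ge (mem_top g) : g ∈ H)
    have hgx : g * x * g⁻¹ ∈ Sg := ⟨x, hx, rfl⟩
    have h1 := hv.2 _ hgx
    set z := g⁻¹ * v * g * v⁻¹ with hz
    have hzW : z ∈ W0 := by
      have := (hH.ge (mem_top g⁻¹) : g⁻¹ ∈ H)
      have e : g⁻¹ * v * g⁻¹⁻¹ * v⁻¹ = z := by rw [inv_inv]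
      exact e ▸ this
    have hzc : Commute x z := Subgroup.mem_center_iff.mp hzW.2 x
    have h2 : Commute x (g⁻¹ * v * g) := by
      show x * (g⁻¹ * v * g) = g⁻¹ * v * g * x
      calc x * (g⁻¹ * v * g) = g⁻¹ * (g * x * g⁻¹ * v) * g := by group
        _ = g⁻¹ * (v * (g * x * g⁻¹)) * g := by rw [h1]
        _ = _ := by group
    have e : v = z⁻¹ * (g⁻¹ * v * g) := by rw [hz]; group
    rw [e]
    exact (hzc.inv_right.mul_right h2).eq
  have hFcard : Nat.card F' = Nat.card F := card_fx_conj hV _ g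
  -- the injection `S/Q → F/W0`
  obtain ⟨v, hv, hvW⟩ : ∃ v ∈ F', v ∉ W0 := by
    by_contra hno
    push Not at hno
    apply hV.not_fix
    have h1 : F' = W0 := le_antisymm hno (hW0F _)
    have h2 : F = W0 := (Subgroup.eq_of_le_of_card_ge (hW0F _) (by rw [← hFcard, h1])).symm
    exact (le_of_eq h2).trans inf_le_right
  have hcount := card_mul_le_of_fibres (T := (S : Subgroup G)) (C := W0) (W := F) (D := pCore p G)
    (fun t => t * v * t⁻¹ * v⁻¹) (fun t ht c hc => F.mul_mem (hquad t ht v hv.1) (hW0F _ hc))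
    (fun t ht s hs hc => by
      by_contra hq
      have hts : s⁻¹ * t ∈ (S : Subgroup G) := mul_mem (inv_mem hs) ht
      refine hvW (hlem hv hts hq ?_)
      have h1 := (hquad s hs v hv.1).2 _ (inv_mem hs)
      have h2 : s⁻¹ * (s * v * s⁻¹ * v⁻¹) * s = s * v * s⁻¹ * v⁻¹ := by
        rw [h1, inv_mul_cancel_right]
      have h3 := (hquad t ht v hv.1).2 _ (inv_mem hs)
      have h4 : s⁻¹ * (t * v * t⁻¹ * v⁻¹) * s = t * v * t⁻¹ * v⁻¹ := by
        rw [h3, inv_mul_cancel_right]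
      have e : s⁻¹ * t * v * (s⁻¹ * t)⁻¹ * v⁻¹ =
          (s⁻¹ * (t * v * t⁻¹ * v⁻¹) * s) * (s⁻¹ * (s * v * s⁻¹ * v⁻¹) * s)⁻¹ := by group
      rw [e, h2, h4, hV.comm _ (hquad t ht v hv.1).1 _ (inv_mem (hquad s hs v hv.1).1)]
      exact hc)
  have e2 := card_fx_sup hV (S : Subgroup G) Sg
  rw [← hF, ← hF', hinf, hFcard] at e2
  have hsupV : F ⊔ F' ≤ V := sup_le inf_le_left inf_le_left
  have hFF : Nat.card F * Nat.card F ≤ Nat.card V * Nat.card W0 :=
    e2.le.trans (Nat.mul_le_mul (Subgroup.card_le_of_le hsupV) le_rfl)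
  have hoffS : Nat.card (pCore p G) * Nat.card V ≤ Nat.card (S : Subgroup G) * Nat.card F := hm.trans hb.eq.ge
  have hFpos : 0 < Nat.card F := Nat.card_pos
  have hWpos : 0 < Nat.card W0 := Nat.card_pos
  have hindex : Nat.card (S : Subgroup G) * Nat.card F = Nat.card (pCore p G) * Nat.card V := by
    refine le_antisymm (Nat.le_of_mul_le_mul_right ?_ hWpos) hoffS
    calc Nat.card (S : Subgroup G) * Nat.card F * Nat.card W0
        = Nat.card F * (Nat.card (S : Subgroup G) * Nat.card W0) := by ring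
      _ ≤ Nat.card F * (Nat.card F * Nat.card (pCore p G)) := Nat.mul_le_mul le_rfl hcount
      _ = Nat.card (pCore p G) * (Nat.card F * Nat.card F) := by ring
      _ ≤ Nat.card (pCore p G) * (Nat.card V * Nat.card W0) := Nat.mul_le_mul le_rfl hFF
      _ = _ := by ring
  have hFFeq : Nat.card V * Nat.card W0 ≤ Nat.card F * Nat.card F := by
    refine Nat.le_of_mul_le_mul_left ?_ (Nat.card_pos (α := pCore p G))
    calc Nat.card (pCore p G) * (Nat.card V * Nat.card W0)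
        = Nat.card F * (Nat.card (S : Subgroup G) * Nat.card W0) := by rw [← mul_assoc, ← hindex]; ring
      _ ≤ Nat.card F * (Nat.card F * Nat.card (pCore p G)) := Nat.mul_le_mul le_rfl hcount
      _ = _ := by ring
  refine ⟨hquad, hindex, fun x hx hxQ w hw hxw => ?_, hinf.le.trans inf_le_right,
    Subgroup.eq_of_le_of_card_ge hsupV ?_⟩
  · set X := fx V (Subgroup.closure {x}) with hX
    have hFX : F ≤ X := fx_anti ((Subgroup.closure_le _).mpr (Set.singleton_subset_iff.mpr hx))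
    have e3 := card_fx_sup hV (Subgroup.closure {x}) Sg
    rw [← hX, ← hF', hFcard] at e3
    have hint : X ⊓ F' ≤ W0 := fun v hv =>
      hcommute_of hv.2 hx hxQ (hv.1.2 x (Subgroup.subset_closure rfl))
    have hXF : X = F := (Subgroup.eq_of_le_of_card_ge hFX (Nat.le_of_mul_le_mul_right
      (e3.le.trans ((Nat.mul_le_mul (Subgroup.card_le_of_le (sup_le inf_le_left inf_le_left))
        (Subgroup.card_le_of_le hint)).trans hFFeq)) hFpos)).symm
    show w ∈ F
    rw [← hXF]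
    refine ⟨hw, fun y hy => ?_⟩
    have hle : Subgroup.closure {x} ≤ centralizer {w} := (Subgroup.closure_le _).mpr
      (Set.singleton_subset_iff.mpr (mem_centralizer_singleton_iff.mpr hxw))
    exact mem_centralizer_singleton_iff.mp (hle hy)
  · exact Nat.le_of_mul_le_mul_right (hFFeq.trans e2.le) hWpos

end CfsgLib.PushRankOne
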