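import Mathlib
import Cfsg.Agent.Lib.PushRankOne.Module
import Cfsg.Agent.Lib.ZJ.Center

/-!
Baumann's lemma for rank-one pushing up.
-/

set_option autoImplicit false

namespace CfsgLib.PushRankOne

open Cfsg Subgroup CfsgLib.ZJ
open scoped commutatorElement

universe u
variable {G : Type u} [Group G] {p : ℕ}

theorem normal_of_le_center {H : Subgroup G} (h : H ≤ center G) : H.Normal :=
  ⟨fun x hx y => by rw [Subgroup.mem_center_iff.mp (h hx) y, mul_inv_cancel_right]; exact hx⟩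

theorem exists_mul_of_sup {N H : Subgroup G} (hn : H ≤ normalizer (N : Set G)) {x : G} (hx : x ∈ N ⊔ H) :
    ∃ a ∈ N, ∃ b ∈ H, a * b = x := by
  rw [← SetLike.mem_coe, Subgroup.coe_mul_of_right_le_normalizer_left N H hn] at hx
  exact Set.mem_mul.mp hx

theorem le_normalizer_of_normal' {N : Subgroup G} (hN : N.Normal) (H : Subgroup G) :
    H ≤ normalizer (N : Set G) := by
  haveI := hN
  rw [Subgroup.normalizer_eq_top]
  exact le_top

theorem isGood_sup {A B : Subgroup G} (hA : IsGood 0 A) (hB : IsGood 0 B)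
    (h : ∀ a ∈ A, ∀ b ∈ B, a * b = b * a) : IsGood 0 (A ⊔ B) := by
  have hAA : A ≤ centralizer (↑(A ⊔ B) : Set G) := Subgroup.le_centralizer_iff.mp (sup_le
    (fun x hx y hy => hA.1 y hy x hx) (fun x hx y hy => h y hy x hx))
  have hBB : B ≤ centralizer (↑(A ⊔ B) : Set G) := Subgroup.le_centralizer_iff.mp (sup_le
    (fun x hx y hy => (h x hx y hy).symm) (fun x hx y hy => hB.1 y hy x hx))
  exact ⟨fun x hx y hy => ((sup_le hAA hBB) hy x hx), fun x _ => pow_zero x⟩

theorem isGood_of_comm {A : Subgroup G} (h : ∀ a ∈ A, ∀ b ∈ A, a * b = b * a) : IsGood 0 A :=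
  ⟨h, fun x _ => pow_zero x⟩

variable [Finite G] [Fact p.Prime] {S : Sylow p G}

theorem mem_of_centralizes {P A : Subgroup G} (hA : A ∈ goodMax 0 P) {v : G} (hv : v ∈ P)
    (h : ∀ a ∈ A, a * v = v * a) : v ∈ A := by
  have hz : IsGood 0 (Subgroup.zpowers v) := isGood_of_comm (by
    rintro _ ⟨i, rfl⟩ _ ⟨j, rfl⟩
    exact (Commute.refl v).zpow_zpow i j)
  have hg : IsGood 0 (A ⊔ Subgroup.zpowers v) := isGood_sup hA.2.1 hz (by
    rintro a ha _ ⟨i, rfl⟩
    exact (Commute.zpow_right (h a ha) i))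
  have := Subgroup.eq_of_le_of_card_ge le_sup_left (hA.2.2 _ (sup_le hA.1 (Subgroup.zpowers_le.mpr hv)) hg)
  rw [this]
  exact Subgroup.mem_sup_right (Subgroup.mem_zpowers v)

/-- The centre of the Sylow subgroup. -/
abbrev zs (S : Sylow p G) : Subgroup G := (S : Subgroup G) ⊓ centralizer ((S : Subgroup G) : Set G)

theorem zs_le_zj : zs S ≤ zj 0 (S : Subgroup G) := by
  intro z hz
  obtain ⟨A, hA⟩ := goodMax_nonempty 0 (S : Subgroup G)
  exact ⟨le_thompsonJ hA (mem_of_centralizes hA hz.1 fun a ha => hz.2 a (hA.1 ha)),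
    fun y hy => hz.2 y (thompsonJ_le 0 _ hy)⟩

theorem eq_center_of_centralized {x : G} {L : Subgroup G} (hL : L ⊔ (S : Subgroup G) = ⊤)
    (h1 : ∀ y ∈ L, y * x = x * y) (h2 : ∀ y ∈ (S : Subgroup G), y * x = x * y) : x ∈ center G := by
  have h : L ⊔ (S : Subgroup G) ≤ centralizer {x} :=
    sup_le (fun y hy => mem_centralizer_singleton_iff.mpr (h1 y hy))
      (fun y hy => mem_centralizer_singleton_iff.mpr (h2 y hy))
  rw [hL] at h
  exact Subgroup.mem_center_iff.mpr fun y => mem_centralizer_singleton_iff.mp (h (mem_top y))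

/-- If every member lies in `O_p(G)`, then `Z(S)` is central or `C_S(ZJ(S))` is normal. -/
theorem case_inside (hS : Setting S) (h : ∀ A ∈ goodMax 0 (S : Subgroup G), A ≤ pCore p G) :
    zs S ≤ center G ∨ ((S : Subgroup G) ⊓ centralizer (zj 0 (S : Subgroup G) : Set G)).Normal := by
  have hQn : (pCore p G).Normal := inferInstance
  have hmem : goodMax 0 (S : Subgroup G) = goodMax 0 (pCore p G) := by
    ext A
    constructor
    · exact fun hA => ⟨h A hA, hA.2.1, fun B hB hg => hA.2.2 B (hB.trans hS.core_le) hg⟩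
    · intro hA
      refine ⟨hA.1.trans hS.core_le, hA.2.1, fun B hB hg => ?_⟩
      obtain ⟨C, hC⟩ := goodMax_nonempty 0 (S : Subgroup G)
      exact (hC.2.2 B hB hg).trans (hA.2.2 C (h C hC) hC.2.1)
  have hzj : zj 0 (S : Subgroup G) = zj 0 (pCore p G) := by simp only [zj, thompsonJ, hmem]
  have hn : (zj 0 (S : Subgroup G)).Normal := by
    rw [hzj, ← Subgroup.normalizer_eq_top_iff, ← top_le_iff]
    refine le_trans ?_ (normalizer_le_normalizer_zj 0 (pCore p G))
    exact (Subgroup.normalizer_eq_top_iff.mpr hQn).ge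
  haveI := hn
  rcases hS.normal_cases (centralizer (zj 0 (S : Subgroup G) : Set G)) inferInstance with h1 | h1
  · exact Or.inl fun z hz => eq_center_of_centralized h1 (fun y hy => (hy z (zs_le_zj hz)).symm) (fun y hy => hz.2 y hy)
  · refine Or.inr ?_
    have : (S : Subgroup G) ⊓ centralizer (zj 0 (S : Subgroup G) : Set G) =
        pCore p G ⊓ centralizer (zj 0 (S : Subgroup G) : Set G) :=
      le_antisymm (le_inf ((inf_comm _ _).le.trans h1) inf_le_right) (inf_le_inf_right _ hS.core_le)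
    rw [this]
    exact Subgroup.normal_inf_normal _ _

theorem center_of_zs_normal (hS : Setting S) (h : (zs S).Normal) : zs S ≤ center G := by
  intro z hz
  haveI := h
  rcases hS.normal_cases (centralizer (zs S : Set G)) inferInstance with h1 | h1
  · exact eq_center_of_centralized h1 (fun y hy => (hy z hz).symm) (fun y hy => hz.2 y hy)
  · obtain ⟨x, hx, hxQ⟩ := hS.exists_mem
    exact absurd (h1 ⟨fun y hy => (hy.2 x hx).symm, hx⟩) hxQ

theorem mdl_closure (hS : Setting S) (hZ : ¬ (zs S).Normal) :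
    Mdl S (normalClosure (zs S : Set G)) := by
  set V := normalClosure (zs S : Set G) with hV
  have hQn : (pCore p G).Normal := inferInstance
  haveI : (centralizer (pCore p G : Set G)).Normal := inferInstance
  have h1 : V ≤ centralizer (pCore p G : Set G) :=
    normalClosure_le_normal fun z hz q hq => hz.2 q (hS.core_le hq)
  have h2 : V ≤ pCore p G := h1.trans hS.charP
  refine ⟨normalClosure_normal, h2, fun a ha b hb => h1 hb a (h2 ha), fun v hv q hq => h1 hv q hq,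
    fun hle => hZ (normal_of_le_center fun z hz => ?_), fun hle => hZ (normal_of_le_center fun z hz => ?_)⟩
  · haveI : V.Normal := normalClosure_normal
    rcases hS.normal_cases (centralizer (V : Set G)) inferInstance with h | h
    · exact eq_center_of_centralized h (fun y hy => (hy z (Subgroup.le_normalClosure hz)).symm) (fun y hy => hz.2 y hy)
    · obtain ⟨x, hx, hxQ⟩ := hS.exists_mem
      exact absurd (h ⟨hle hx, hx⟩) hxQ
  · exact hle ⟨Subgroup.le_normalClosure hz, fun y hy => hz.2 y hy⟩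

/-- The facts in the case `J(S) ≰ O_p(G)`. -/
structure Outside (S : Sylow p G) (V : Subgroup G) : Prop where
  power : ∀ v ∈ V, v ^ p ∈ center G
  comm_le : ⁅zj 0 (S : Subgroup G), (S : Subgroup G)⁆ ⊓ zs S ≤ center G
  closure_le : (S : Subgroup G) ⊓ normalClosure
      (↑((S : Subgroup G) ⊓ centralizer (zj 0 (S : Subgroup G) : Set G)) : Set G) ≤
    centralizer (zj 0 (S : Subgroup G) : Set G)

theorem outside (hS : Setting S) {V : Subgroup G} (hV : Mdl S V) {A₀ : Subgroup G}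
    (hA₀ : A₀ ∈ goodMax 0 (S : Subgroup G)) (hA₀Q : ¬ A₀ ≤ pCore p G) : Outside S V := by
  set Q := pCore p G with hQ
  set P := (S : Subgroup G) with hP
  haveI hQn : Q.Normal := inferInstance
  haveI hVn : V.Normal := hV.normal
  have hVS : V ≤ P := hV.le.trans hS.core_le
  -- a member outside `Q` gives an offender
  have hfxA : ∀ A ∈ goodMax 0 P, fx V A = A ⊓ V := fun A hA => le_antisymm
    (fun v hv => ⟨mem_of_centralizes hA (hVS hv.1) hv.2, hv.1⟩)
    (fun v hv => ⟨hv.2, fun a ha => hA.2.1.1 a ha v hv.1⟩)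
  have hB : ∀ A ∈ goodMax 0 P, IsGood 0 (A ⊓ Q ⊔ V) ∧ A ⊓ Q ⊔ V ≤ Q ∧
      Nat.card V * Nat.card ↥(A ⊓ Q) = Nat.card ↥(A ⊓ Q ⊔ V) * Nat.card (fx V A) := by
    intro A hA
    refine ⟨isGood_sup (isGood_of_comm fun a ha b hb => hA.2.1.1 a ha.1 b hb.1) (isGood_of_comm hV.comm)
      (fun a ha v hv => hV.cent v hv a ha.2), sup_le inf_le_right hV.le, ?_⟩
    have h1 := card_mul_eq_of_le_normalizer (H := V) (K := A ⊓ Q) (le_normalizer_of_normal' hV.normal _)
    have h2 : V ⊓ (A ⊓ Q) = fx V A := by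
      rw [hfxA A hA]
      exact le_antisymm (le_inf (inf_le_right.trans inf_le_left) inf_le_left)
        (le_inf inf_le_right (le_inf inf_le_left (inf_le_right.trans hV.le)))
    rw [h2, sup_comm] at h1
    exact h1
  have hAQ : ∀ A : Subgroup G, Nat.card Q * Nat.card A = Nat.card ↥(Q ⊔ A) * Nat.card ↥(A ⊓ Q) := by
    intro A
    rw [inf_comm A Q]
    exact card_mul_eq_of_le_normalizer (le_normalizer_of_normal' hQn A)
  have hfxR : ∀ A : Subgroup G, fx V (Q ⊔ A) = fx V A := fun A => by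
    rw [fx_sup, hV.fx_core]
    exact inf_eq_right.mpr inf_le_left
  have hne : ∀ A : Subgroup G, ¬ A ≤ Q → Q ⊔ A ≠ Q := fun A hA e => hA (e ▸ le_sup_right)
  have hoffA : ∀ A ∈ goodMax 0 P,
      Nat.card Q * Nat.card V ≤ Nat.card ↥(Q ⊔ A) * Nat.card (fx V (Q ⊔ A)) := by
    intro A hA
    obtain ⟨hg, hle, hc⟩ := hB A hA
    rw [hfxR]
    refine Nat.le_of_mul_le_mul_right ?_ (Nat.card_pos (α := ↥(A ⊓ Q)))
    calc Nat.card Q * Nat.card V * Nat.card ↥(A ⊓ Q)
        = Nat.card Q * (Nat.card ↥(A ⊓ Q ⊔ V) * Nat.card (fx V A)) := by rw [mul_assoc, hc]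
      _ ≤ Nat.card Q * (Nat.card A * Nat.card (fx V A)) :=
          Nat.mul_le_mul le_rfl (Nat.mul_le_mul (hA.2.2 _ (hle.trans hS.core_le) hg) le_rfl)
      _ = _ := by rw [← mul_assoc, hAQ]; ring
  obtain ⟨g, hg, hN⟩ := natural hS hV
    ⟨Q ⊔ A₀, le_sup_left, sup_le hS.core_le hA₀.1, hne A₀ hA₀Q, hoffA A₀ hA₀⟩
  set F := fx V P with hF
  have hfull : ∀ A ∈ goodMax 0 P, ¬ A ≤ Q → Q ⊔ A = P ∧ fx V A = F := by
    intro A hA hAQ'
    obtain ⟨x, hxA, hxQ⟩ := SetLike.not_le_iff_exists.mp hAQ'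
    have h1 : fx V A = F := le_antisymm
      (fun v hv => hN.fixed x (hA.1 hxA) hxQ v hv.1 (hv.2 x hxA)) (fx_anti hA.1)
    refine ⟨Subgroup.eq_of_le_of_card_ge (sup_le hS.core_le hA.1) ?_, h1⟩
    have h2 := hoffA A hA
    rw [hfxR, h1, ← hN.index] at h2
    exact Nat.le_of_mul_le_mul_right h2 Nat.card_pos
  -- members inside `Q`
  obtain ⟨hB0g, hB0Q, hB0c⟩ := hB A₀ hA₀
  obtain ⟨hA₀P, hA₀F⟩ := hfull A₀ hA₀ hA₀Q
  have hB0 : Nat.card A₀ ≤ Nat.card ↥(A₀ ⊓ Q ⊔ V) := by
    have h1 := hAQ A₀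
    rw [hA₀P] at h1
    rw [hA₀F] at hB0c
    refine Nat.le_of_mul_le_mul_right (Nat.le_of_mul_le_mul_left ?_ (Nat.card_pos (α := Q)))
      (Nat.card_pos (α := F))
    rw [← hB0c]
    apply le_of_eq
    calc Nat.card Q * (Nat.card A₀ * Nat.card F)
        = Nat.card P * Nat.card ↥(A₀ ⊓ Q) * Nat.card F := by rw [← mul_assoc, h1]
      _ = Nat.card ↥(A₀ ⊓ Q) * (Nat.card P * Nat.card F) := by ring
      _ = _ := by rw [hN.index]; ring
  have hQmem : ∀ B ∈ goodMax 0 Q, B ∈ goodMax 0 P := fun B hBm => ⟨hBm.1.trans hS.core_le, hBm.2.1,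
    fun C hC hCg => (hA₀.2.2 C hC hCg).trans (hB0.trans (hBm.2.2 _ hB0Q hB0g))⟩
  have hBmem : ∀ A ∈ goodMax 0 P, ¬ A ≤ Q → A ⊓ Q ≤ thompsonJ 0 Q := by
    intro A hA hAQ'
    obtain ⟨hg', hle, hc⟩ := hB A hA
    obtain ⟨hAP, hAF⟩ := hfull A hA hAQ'
    have h1 := hAQ A
    rw [hAP] at h1
    rw [hAF] at hc
    have hcard : Nat.card A ≤ Nat.card ↥(A ⊓ Q ⊔ V) := by
      refine Nat.le_of_mul_le_mul_right (Nat.le_of_mul_le_mul_left ?_ (Nat.card_pos (α := Q)))
        (Nat.card_pos (α := F))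
      rw [← hc]
      apply le_of_eq
      calc Nat.card Q * (Nat.card A * Nat.card F)
          = Nat.card P * Nat.card ↥(A ⊓ Q) * Nat.card F := by rw [← mul_assoc, h1]
        _ = Nat.card ↥(A ⊓ Q) * (Nat.card P * Nat.card F) := by ring
        _ = _ := by rw [hN.index]; ring
    exact le_sup_left.trans (le_thompsonJ
      ⟨hle, hg', fun B hBQ hBg => (hA.2.2 B (hBQ.trans hS.core_le) hBg).trans hcard⟩)
  set Z := zj 0 P with hZdef
  set Y := zj 0 Q with hY
  have hYn : Y.Normal := by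
    rw [← Subgroup.normalizer_eq_top_iff, ← top_le_iff]
    exact le_trans (Subgroup.normalizer_eq_top_iff.mpr hQn).ge (normalizer_le_normalizer_zj 0 Q)
  haveI := hYn
  have hYQ : Y ≤ Q := zj_le 0 Q
  have hYcomm : ∀ a ∈ Y, ∀ b ∈ Y, a * b = b * a := fun a ha b hb => zj_comm ha hb
  have hZY : Z ≤ Y := by
    intro z hz
    obtain ⟨B, hBm⟩ := goodMax_nonempty 0 Q
    refine ⟨le_thompsonJ hBm (mem_of_centralizes (hQmem B hBm) (zj_le 0 P hz)
      fun b hb => hz.2 b (le_thompsonJ (hQmem B hBm) hb)), fun y hy => ?_⟩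
    have hle : thompsonJ 0 Q ≤ thompsonJ 0 P := sSup_le fun C hC => le_thompsonJ (hQmem C hC)
    exact hz.2 y (hle hy)
  have hVY : V ≤ Y := by
    intro v hv
    obtain ⟨B, hBm⟩ := goodMax_nonempty 0 Q
    exact ⟨le_thompsonJ hBm (mem_of_centralizes hBm (hV.le hv) fun b hb => hV.cent v hv b (hBm.1 hb)),
      fun y hy => hV.cent v hv y (thompsonJ_le 0 Q hy)⟩
  have hYsplit : ∀ A ∈ goodMax 0 P, ¬ A ≤ Q → ∀ y ∈ Y, ∃ v ∈ V, ∃ b ∈ A ⊓ Y, v * b = y := by
    intro A hA hAQ' y hy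
    obtain ⟨hAP, hAF⟩ := hfull A hA hAQ'
    have hB' : IsGood 0 (A ⊓ Q ⊔ Y) := isGood_sup (isGood_of_comm fun a ha b hb => hA.2.1.1 a ha.1 b hb.1)
      (isGood_of_comm hYcomm) (fun a ha b hb => hb.2 a (hBmem A hA hAQ' ha))
    have h1 := card_mul_eq_of_le_normalizer (H := Y) (K := A ⊓ Q) (le_normalizer_of_normal' hYn _)
    have h2 : Y ⊓ (A ⊓ Q) = A ⊓ Y := le_antisymm (le_inf (inf_le_right.trans inf_le_left) inf_le_left)
      (le_inf inf_le_right (le_inf inf_le_left (inf_le_right.trans hYQ)))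
    rw [h2, sup_comm] at h1
    have h3 := hA.2.2 _ (sup_le inf_le_right hYQ |>.trans hS.core_le) hB'
    have h4 := card_mul_eq_of_le_normalizer (H := V) (K := A ⊓ Y) (le_normalizer_of_normal' hV.normal _)
    have h5 : V ⊓ (A ⊓ Y) = F := by
      rw [← hAF, hfxA A hA]
      exact le_antisymm (le_inf (inf_le_right.trans inf_le_left) inf_le_left)
        (le_inf inf_le_right (le_inf inf_le_left (inf_le_right.trans hVY)))
    rw [h5] at h4
    have h6 := hAQ A
    rw [hAP] at h6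
    have hcard : Nat.card Y ≤ Nat.card ↥(V ⊔ A ⊓ Y) := by
      refine Nat.le_of_mul_le_mul_right ?_ (Nat.card_pos (α := F))
      rw [← h4]
      refine Nat.le_of_mul_le_mul_right ?_
        (Nat.mul_pos (Nat.card_pos (α := ↥(A ⊓ Q))) (Nat.card_pos (α := P)))
      calc Nat.card Y * Nat.card F * (Nat.card ↥(A ⊓ Q) * Nat.card P)
          = Nat.card Y * Nat.card ↥(A ⊓ Q) * (Nat.card P * Nat.card F) := by ring
        _ ≤ Nat.card A * Nat.card ↥(A ⊓ Y) * (Nat.card Q * Nat.card V) :=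
            Nat.mul_le_mul (h1.le.trans (Nat.mul_le_mul h3 le_rfl)) hN.index.le
        _ = Nat.card V * Nat.card ↥(A ⊓ Y) * (Nat.card Q * Nat.card A) := by ring
        _ = _ := by rw [h6]; ring
    have hsup : V ⊔ A ⊓ Y = Y := Subgroup.eq_of_le_of_card_ge (sup_le hVY inf_le_right) hcard
    exact exists_mul_of_sup (le_normalizer_of_normal' hV.normal _) (hsup.symm ▸ hy)
  -- action on `Y/V`
  let N₀ : Subgroup G :=
    { carrier := {x | ∀ y ∈ Y, x * y * x⁻¹ * y⁻¹ ∈ V}
      one_mem' := fun y _ => by simpa using V.one_mem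
      mul_mem' := fun {a b} ha hb y hy => by
        have e : a * b * y * (a * b)⁻¹ * y⁻¹ = (a * (b * y * b⁻¹ * y⁻¹) * a⁻¹) * (a * y * a⁻¹ * y⁻¹) := by group
        rw [e]
        exact V.mul_mem (hV.normal.conj_mem _ (hb y hy) a) (ha y hy)
      inv_mem' := fun {a} ha y hy => by
        have e : a⁻¹ * y * a⁻¹⁻¹ * y⁻¹ = a⁻¹ * (a * y * a⁻¹ * y⁻¹)⁻¹ * a⁻¹⁻¹ := by group
        rw [e]
        exact hV.normal.conj_mem _ (V.inv_mem (ha y hy)) a⁻¹ }
  haveI : N₀.Normal := ⟨fun x hx c y hy => by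
    have e : c * x * c⁻¹ * y * (c * x * c⁻¹)⁻¹ * y⁻¹ =
        c * (x * (c⁻¹ * y * c) * x⁻¹ * (c⁻¹ * y * c)⁻¹) * c⁻¹ := by group
    rw [e]
    exact hV.normal.conj_mem _ (hx _ (by simpa using hYn.conj_mem y hy c⁻¹)) c⟩
  have hmem_act : ∀ A ∈ goodMax 0 P, A ≤ N₀ := by
    intro A hA a ha y hy
    by_cases hAQ' : A ≤ Q
    · have hAm : A ∈ goodMax 0 Q := ⟨hAQ', hA.2.1, fun B hBQ hBg => hA.2.2 B (hBQ.trans hS.core_le) hBg⟩
      rw [zj_commute hAm hy ha, mul_inv_cancel_right, mul_inv_cancel]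
      exact V.one_mem
    · obtain ⟨v, hv, b, hb, rfl⟩ := hYsplit A hA hAQ' y hy
      have e : a * (v * b) * a⁻¹ * (v * b)⁻¹ = (a * v * a⁻¹) * (a * b * a⁻¹ * b⁻¹) * v⁻¹ := by group
      rw [e, hA.2.1.1 a ha b hb.1, mul_inv_cancel_right, mul_inv_cancel, mul_one]
      exact hV.comm_mem hv a
  set L := normalClosure (thompsonJ 0 P : Set G) with hL
  haveI hLn : L.Normal := normalClosure_normal
  have hLN : L ≤ N₀ := normalClosure_le_normal (sSup_le hmem_act)
  have hJL : thompsonJ 0 P ≤ L := Subgroup.le_normalClosure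
  have hLS : L ⊔ P = ⊤ := (hS.normal_cases L hLn).resolve_right fun h =>
    hA₀Q ((le_inf ((le_thompsonJ hA₀).trans hJL) hA₀.1).trans h)
  -- `[Z, S]` is centralized by `L`
  set W := Y ⊓ centralizer (L : Set G) with hW
  haveI hWn : W.Normal := Subgroup.normal_inf_normal _ _
  have hLcl : ∀ d : G, (∀ l ∈ L, ∀ A ∈ goodMax 0 P, ∀ a ∈ A, (l * a * l⁻¹) * d = d * (l * a * l⁻¹)) →
      ∀ y ∈ L, y * d = d * y := by
    intro d hd
    have hnorm : P ≤ normalizer (thompsonJ 0 P : Set G) := by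
      refine Subgroup.le_normalizer.trans fun x hx => ?_
      have hmap : (thompsonJ 0 P).map (MulAut.conj x).toMonoidHom = thompsonJ 0 P := by
        rw [← thompsonJ_map 0 (f := (MulAut.conj x).toMonoidHom) (MulEquiv.injective _)]
        congr 1
        ext y
        constructor
        · rintro ⟨z, hz, rfl⟩; exact (mem_normalizer_iff.mp hx z).mp hz
        · intro hy
          exact ⟨x⁻¹ * y * x, by simpa using (mem_normalizer_iff.mp (inv_mem hx) y).mp hy, by simp [mul_assoc]⟩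
      rw [mem_normalizer_iff]
      intro y
      constructor
      · intro hy; exact hmap ▸ ⟨y, hy, rfl⟩
      · intro hy
        rw [← hmap] at hy
        obtain ⟨z, hz, hzy⟩ := hy
        simp only [MulEquiv.coe_toMonoidHom, MulAut.conj_apply, mul_left_inj, mul_right_inj] at hzy
        exact hzy ▸ hz
    have hall : L ≤ centralizer {d} := by
      refine (Subgroup.closure_le _).mpr ?_
      intro y hy
      obtain ⟨j, hj, hjy⟩ := Group.mem_conjugatesOfSet_iff.mp hy
      obtain ⟨c, rfl⟩ := isConj_iff.mp hjy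
      obtain ⟨l, hl, s, hs, rfl⟩ := exists_mul_of_sup (le_normalizer_of_normal' hLn P) (hLS.ge (mem_top c))
      have hj' : s * j * s⁻¹ ∈ thompsonJ 0 P := (mem_normalizer_iff.mp (hnorm hs) j).mp hj
      have key : thompsonJ 0 P ≤ (centralizer {d}).comap (MulAut.conj l).toMonoidHom :=
        sSup_le fun A hA a ha => mem_centralizer_singleton_iff.mpr (hd l hl A hA a ha)
      have := key hj'
      rw [Subgroup.mem_comap] at this
      simpa [mul_assoc] using this
    exact fun y hy => mem_centralizer_singleton_iff.mp (hall hy)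
  have hYcomm_conj : ∀ y ∈ Y, ∀ v ∈ Y, v * y * v⁻¹ = y := fun y hy v hv => by
    rw [hYcomm v hv y hy, mul_inv_cancel_right]
  have hδ : ∀ n ∈ Q, ∀ z ∈ Z, n * z * n⁻¹ * z⁻¹ ∈ W := by
    intro n hn z hz
    have hzY := hZY hz
    refine ⟨Y.mul_mem (hYn.conj_mem z hzY n) (Y.inv_mem hzY), fun y hy => ?_⟩
    refine hLcl _ (fun l hl A hA a ha => ?_) y hy
    -- `l⁻¹` moves it to the commutator with another element of `Q`
    set m := l⁻¹ * n * l with hm
    have hmQ : m ∈ Q := by simpa using hQn.conj_mem n hn l⁻¹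
    set v := l⁻¹ * z * l * z⁻¹ with hv
    have hvV : v ∈ V := by simpa using hLN (L.inv_mem hl) z hzY
    have hd : n * z * n⁻¹ * z⁻¹ = l * (m * z * m⁻¹ * z⁻¹) * l⁻¹ := by
      have e1 : n * z * n⁻¹ * z⁻¹ = l * ((m * (v * z) * m⁻¹) * (v * z)⁻¹) * l⁻¹ := by rw [hv, hm]; group
      rw [e1]
      congr 2
      have hmv : m * v * m⁻¹ = v := by rw [hV.cent v hvV m hmQ, mul_inv_cancel_right]
      calc m * (v * z) * m⁻¹ * (v * z)⁻¹ = (m * v * m⁻¹) * (m * z * m⁻¹ * z⁻¹) * v⁻¹ := by group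
        _ = v * (m * z * m⁻¹ * z⁻¹) * v⁻¹ := by rw [hmv]
        _ = _ := hYcomm_conj _ (Y.mul_mem (hYn.conj_mem z hzY m) (Y.inv_mem hzY)) v (hVY hvV)
    have hcomm : Commute a (m * z * m⁻¹ * z⁻¹) := by
      refine Commute.mul_right ?_ (Commute.inv_right (zj_commute hA hz ha))
      have hmem : m⁻¹ * a * m ∈ thompsonJ 0 P := by
        have hA' : A.map (MulAut.conj m⁻¹).toMonoidHom ∈ goodMax 0 P := by
          refine ⟨?_, isGood_map _ hA.2.1, fun B hBP hBg => ?_⟩
          · rintro _ ⟨b, hb, rfl⟩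
            simpa using P.mul_mem (P.mul_mem (P.inv_mem (hS.core_le hmQ)) (hA.1 hb)) (hS.core_le hmQ)
          · rw [Subgroup.card_map_of_injective (MulEquiv.injective _)]
            exact hA.2.2 B hBP hBg
        exact le_thompsonJ hA' ⟨a, ha, by simp⟩
      have h := hz.2 _ hmem
      calc a * (m * z * m⁻¹) = m * ((m⁻¹ * a * m) * z) * m⁻¹ := by group
        _ = m * (z * (m⁻¹ * a * m)) * m⁻¹ := by rw [h]
        _ = _ := by group
    rw [hd]
    calc l * a * l⁻¹ * (l * (m * z * m⁻¹ * z⁻¹) * l⁻¹) = l * (a * (m * z * m⁻¹ * z⁻¹)) * l⁻¹ := by group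
      _ = l * ((m * z * m⁻¹ * z⁻¹) * a) * l⁻¹ := by rw [hcomm.eq]
      _ = _ := by group
  have hSsplit : ∀ s ∈ P, ∃ n ∈ Q, ∃ a ∈ A₀, n * a = s := fun s hs =>
    exists_mul_of_sup (le_normalizer_of_normal' hQn A₀) (hA₀P.ge hs)
  refine ⟨fun v hv => ?_, ?_, ?_⟩
  · -- `p`-th powers
    have hfix : ∀ w ∈ V, ∀ s ∈ P, s * w ^ p = w ^ p * s := by
      intro w hw s hs
      set d := s * w * s⁻¹ * w⁻¹ with hd
      have hdF := hN.quad s hs w hw
      have hpow : ∀ k : ℕ, s ^ k * w * (s ^ k)⁻¹ = d ^ k * w := by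
        intro k
        induction k with
        | zero => simp
        | succ k ih =>
          have hsd : s * d ^ k * s⁻¹ = d ^ k := by
            rw [(Commute.pow_right (hdF.2 s hs) k).eq, mul_inv_cancel_right]
          calc s ^ (k + 1) * w * (s ^ (k + 1))⁻¹ = s * (s ^ k * w * (s ^ k)⁻¹) * s⁻¹ := by
                rw [pow_succ' s k]; group
            _ = (s * d ^ k * s⁻¹) * (s * w * s⁻¹) := by rw [ih]; group
            _ = d ^ (k + 1) * w := by rw [hsd, pow_succ, hd]; group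
      have h1 := hpow p
      rw [hV.cent w hw _ (hS.exp s hs), mul_inv_cancel_right] at h1
      have hdp : d ^ p = 1 := by simpa using h1.symm
      have h2 : s * w ^ p * s⁻¹ = w ^ p := by
        calc s * w ^ p * s⁻¹ = (s * w * s⁻¹) ^ p := by
              rw [show s * w * s⁻¹ = (MulAut.conj s) w from rfl, ← map_pow]; rfl
          _ = (d * w) ^ p := by rw [hd]; group
          _ = d ^ p * w ^ p := Commute.mul_pow (hV.comm d hdF.1 w hw) p
          _ = w ^ p := by rw [hdp, one_mul]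
      calc s * w ^ p = s * w ^ p * s⁻¹ * s := by group
        _ = _ := by rw [h2]
    obtain ⟨x, hx, hxQ⟩ := hS.exists_mem
    have hle : Subgroup.closure {x} ⊔ P.map (MulAut.conj g).toMonoidHom ≤ centralizer {v ^ p} := by
      refine sup_le ((Subgroup.closure_le _).mpr (Set.singleton_subset_iff.mpr
        (mem_centralizer_singleton_iff.mpr (hfix v hv x hx)))) ?_
      rintro _ ⟨s, hs, rfl⟩
      have h := hfix (g⁻¹ * v * g) (by simpa using hV.normal.conj_mem v hv g⁻¹) s hs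
      have e : (g⁻¹ * v * g) ^ p = g⁻¹ * v ^ p * g := by
        calc (g⁻¹ * v * g) ^ p = ((MulAut.conj g⁻¹) v) ^ p := by simp [mul_assoc]
          _ = (MulAut.conj g⁻¹) (v ^ p) := (map_pow _ _ _).symm
          _ = _ := by simp [mul_assoc]
      rw [e] at h
      rw [mem_centralizer_singleton_iff]
      simp only [MulEquiv.coe_toMonoidHom, MulAut.conj_apply]
      calc g * s * g⁻¹ * v ^ p = g * (s * (g⁻¹ * v ^ p * g)) * g⁻¹ := by group
        _ = g * ((g⁻¹ * v ^ p * g) * s) * g⁻¹ := by rw [h]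
        _ = _ := by group
    rw [hg x hx hxQ] at hle
    exact Subgroup.mem_center_iff.mpr fun y => mem_centralizer_singleton_iff.mp (hle (mem_top y))
  · -- `[Z, S] ∩ Z(S)`
    have hle : ⁅Z, P⁆ ≤ W := by
      rw [Subgroup.commutator_comm, Subgroup.commutator_le]
      intro s hs z hz
      obtain ⟨n, hn, a, ha, rfl⟩ := hSsplit s hs
      have haz : a * z * a⁻¹ = z := by rw [zj_commute hA₀ hz ha, mul_inv_cancel_right]
      have e : ⁅n * a, z⁆ = n * (a * z * a⁻¹) * n⁻¹ * z⁻¹ := by rw [commutatorElement_def]; group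
      rw [e, haz]
      exact hδ n hn z hz
    intro x hx
    exact eq_center_of_centralized hLS (fun y hy => (hle hx.1).2 y hy) (fun y hy => hx.2.2 y hy)
  · -- Baumann
    have hQL : ∀ n ∈ L ⊓ Q, ∀ z ∈ Z, n * z = z * n := by
      intro n hn z hz
      obtain ⟨v', hv', b, hb, hvb⟩ := hYsplit A₀ hA₀ hA₀Q (g⁻¹ * z * g) (by simpa using hYn.conj_mem z (hZY hz) g⁻¹)
      set u := g * v' * g⁻¹ with hu
      obtain ⟨v1, hv1, v2, hv2, h12⟩ : ∃ v1 ∈ F, ∃ v2 ∈ fx V (P.map (MulAut.conj g).toMonoidHom), v1 * v2 = u := by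
        refine exists_mul_of_sup (fun x hx => ?_) (hN.sup.symm ▸ hV.normal.conj_mem v' hv' g)
        rw [mem_normalizer_iff]
        intro y
        constructor
        · intro hy; rw [hV.comm x hx.1 y hy.1, mul_inv_cancel_right]; exact hy
        · intro hy
          have hyV : y ∈ V := by
            have := hV.mem_conj hy.1 x⁻¹
            simpa [mul_assoc] using this
          rwa [hV.comm x hx.1 y hyV, mul_inv_cancel_right] at hy
      set d := v2 * (g * b * g⁻¹) with hd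
      have hzd : z = v1 * d := by
        rw [hd, ← mul_assoc, h12, hu]
        have h0 : z = g * (v' * b) * g⁻¹ := by rw [hvb]; group
        rw [h0]; group
      have hdY : d ∈ Y := Y.mul_mem (hVY hv2.1) (hYn.conj_mem b hb.2 g)
      have hd1 : ∀ A ∈ goodMax 0 P, ∀ a ∈ A, Commute a d := by
        intro A hA a ha
        have e : d = v1⁻¹ * z := by rw [hzd]; group
        rw [e]
        exact Commute.mul_right (Commute.inv_right (hv1.2 a (hA.1 ha))) (zj_commute hA hz ha)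
      have hd2 : ∀ a ∈ A₀, Commute (g * a * g⁻¹) d := by
        intro a ha
        refine Commute.mul_right (hv2.2 _ ⟨a, hA₀.1 ha, rfl⟩) ?_
        show g * a * g⁻¹ * (g * b * g⁻¹) = g * b * g⁻¹ * (g * a * g⁻¹)
        calc g * a * g⁻¹ * (g * b * g⁻¹) = g * (a * b) * g⁻¹ := by group
          _ = g * (b * a) * g⁻¹ := by rw [hA₀.2.1.1 a ha b hb.1]
          _ = _ := by group
      let H : Subgroup G :=
        { carrier := {x | x * d * x⁻¹ * d⁻¹ ∈ W}
          one_mem' := by simpa using W.one_mem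
          mul_mem' := fun {a c} ha hc => by
            show a * c * d * (a * c)⁻¹ * d⁻¹ ∈ W
            have e : a * c * d * (a * c)⁻¹ * d⁻¹ = (a * (c * d * c⁻¹ * d⁻¹) * a⁻¹) * (a * d * a⁻¹ * d⁻¹) := by group
            rw [e]
            exact W.mul_mem (hWn.conj_mem _ hc a) ha
          inv_mem' := fun {a} ha => by
            show a⁻¹ * d * a⁻¹⁻¹ * d⁻¹ ∈ W
            have e : a⁻¹ * d * a⁻¹⁻¹ * d⁻¹ = a⁻¹ * (a * d * a⁻¹ * d⁻¹)⁻¹ * a⁻¹⁻¹ := by group
            rw [e]
            exact hWn.conj_mem _ (W.inv_mem ha) a⁻¹ }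
      have hQH : Q ≤ H := by
        intro m hm
        show m * d * m⁻¹ * d⁻¹ ∈ W
        have hmv : m * v1 * m⁻¹ = v1 := by rw [hV.cent v1 hv1.1 m hm, mul_inv_cancel_right]
        have e : m * d * m⁻¹ * d⁻¹ = (m * v1 * m⁻¹)⁻¹ * (m * z * m⁻¹ * z⁻¹) * v1 := by rw [hzd]; group
        rw [e, hmv]
        have h0 := hYcomm_conj _ (hδ m hm z hz).1 v1⁻¹ (Y.inv_mem (hVY hv1.1))
        rw [inv_inv] at h0
        rw [h0]
        exact hδ m hm z hz
      have hfixH : ∀ x, Commute x d → x ∈ H := fun x hx => by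
        show x * d * x⁻¹ * d⁻¹ ∈ W
        rw [hx.eq, mul_inv_cancel_right, mul_inv_cancel]
        exact W.one_mem
      have hSH : P ≤ H := by
        rw [← hA₀P]
        exact sup_le hQH fun a ha => hfixH a (hd1 A₀ hA₀ a ha)
      have hSgH : P.map (MulAut.conj g).toMonoidHom ≤ H := by
        rw [← hA₀P, Subgroup.map_sup, map_conj_eq_self_of_normal hQn g]
        refine sup_le hQH ?_
        rintro _ ⟨a, ha, rfl⟩
        exact hfixH _ (hd2 a ha)
      obtain ⟨x₀, hx₀, hx₀Q⟩ := hS.exists_mem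
      have hHtop : H = ⊤ := top_le_iff.mp ((hg x₀ hx₀ hx₀Q).ge.trans
        (sup_le ((Subgroup.closure_le _).mpr (Set.singleton_subset_iff.mpr (hSH hx₀))) hSgH))
      have hLd : ∀ y ∈ L, y * d = d * y := hLcl d fun l hl A hA a ha => by
        have h1 : l⁻¹ * d * l⁻¹⁻¹ * d⁻¹ ∈ W := (hHtop.ge (mem_top l⁻¹) : l⁻¹ ∈ H)
        have h2 : Commute a (l⁻¹ * d * l⁻¹⁻¹ * d⁻¹) := h1.2 a (hJL (le_thompsonJ hA ha))
        have h3 : Commute a (l⁻¹ * d * l) := by
          have e : l⁻¹ * d * l = (l⁻¹ * d * l⁻¹⁻¹ * d⁻¹) * d := by group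
          rw [e]
          exact h2.mul_right (hd1 A hA a ha)
        calc l * a * l⁻¹ * d = l * (a * (l⁻¹ * d * l)) * l⁻¹ := by group
          _ = l * ((l⁻¹ * d * l) * a) * l⁻¹ := by rw [h3.eq]
          _ = _ := by group
      rw [hzd]
      exact Commute.mul_right (hV.cent v1 hv1.1 n hn.2) (hLd n hn.1)
    -- `Z·V` is normal
    set T := P ⊓ centralizer (Z : Set G) with hT
    have hTn : ∀ x : G, ∀ q ∈ Q, (∀ z ∈ Z, q * z = z * q) → ∀ z ∈ Z,
        x * q * x⁻¹ * z = z * (x * q * x⁻¹) := by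
      intro x q hq hqz z hz
      obtain ⟨l, hl, s, hs, hls⟩ := exists_mul_of_sup (le_normalizer_of_normal' hLn P)
        (hLS.ge (mem_top x⁻¹))
      have hzs : s * z * s⁻¹ ∈ Z :=
        (mem_normalizer_iff.mp (normalizer_le_normalizer_zj 0 P (Subgroup.le_normalizer hs)) z).mp hz
      set v := l * (s * z * s⁻¹) * l⁻¹ * (s * z * s⁻¹)⁻¹ with hv
      have hvV : v ∈ V := hLN hl _ (hZY hzs)
      have h : Commute q (x⁻¹ * z * x) := by
        have e : x⁻¹ * z * x = v * (s * z * s⁻¹) := by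
          have h0 : x = (l * s)⁻¹ := by rw [hls, inv_inv]
          rw [h0, hv]; group
        rw [e]
        exact Commute.mul_right (hV.cent v hvV q hq) (hqz _ hzs)
      calc x * q * x⁻¹ * z = x * (q * (x⁻¹ * z * x)) * x⁻¹ := by group
        _ = x * ((x⁻¹ * z * x) * q) * x⁻¹ := by rw [h.eq]
        _ = _ := by group
    have hCQn : (Q ⊓ centralizer (Z : Set G)).Normal := ⟨fun q hq x => ⟨hQn.conj_mem q hq.1 x,
      fun z hz => (hTn x q hq.1 (fun z hz => (hq.2 z hz).symm) z hz).symm⟩⟩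
    haveI := hCQn
    have hTle : T ≤ L ⊔ Q ⊓ centralizer (Z : Set G) := by
      intro x hx
      obtain ⟨n, hn, a, ha, rfl⟩ := hSsplit x hx.1
      refine mul_mem (Subgroup.mem_sup_right ⟨hn, fun z hz => ?_⟩) (Subgroup.mem_sup_left (hJL (le_thompsonJ hA₀ ha)))
      have h1 : Commute z (n * a) := hx.2 z hz
      have h2 : Commute z a := (zj_commute hA₀ hz ha).symm
      simpa using (h1.mul_right h2.inv_right).eq
    intro x hx
    have hx' := (Subgroup.normalClosure_le_normal (N := L ⊔ Q ⊓ centralizer (Z : Set G)) hTle) hx.2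
    obtain ⟨l, hl, c, hc, rfl⟩ := exists_mul_of_sup (le_normalizer_of_normal' hLn _) hx'
    have hlP : l ∈ P := by simpa using P.mul_mem hx.1 (P.inv_mem (hS.core_le hc.1))
    obtain ⟨n, hn, a, ha, rfl⟩ := hSsplit l hlP
    have hnL : n ∈ L := by simpa using L.mul_mem hl (L.inv_mem (hJL (le_thompsonJ hA₀ ha)))
    refine mul_mem (mul_mem (fun z hz => (hQL n ⟨hnL, hn⟩ z hz).symm) ?_) hc.2
    exact fun z hz => (zj_commute hA₀ hz ha).symm

/-- Either everything relevant is central or normal, or `J(S) ≰ O_p(G)` with the conclusions. -/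
theorem trichotomy (hS : Setting S) :
    zs S ≤ center G ∨ ((S : Subgroup G) ⊓ centralizer (zj 0 (S : Subgroup G) : Set G)).Normal ∨
      (¬ (zs S).Normal ∧ Outside S (normalClosure (zs S : Set G))) := by
  by_cases hn : (zs S).Normal
  · exact Or.inl (center_of_zs_normal hS hn)
  by_cases h : ∀ A ∈ goodMax 0 (S : Subgroup G), A ≤ pCore p G
  · rcases case_inside hS h with h1 | h1
    · exact Or.inl h1
    · exact Or.inr (Or.inl h1)
  push Not at h
  obtain ⟨A₀, hA₀, hA₀Q⟩ := h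
  exact Or.inr (Or.inr ⟨hn, outside hS (mdl_closure hS hn) hA₀ hA₀Q⟩)

end CfsgLib.PushRankOne
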