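import Mathlib
import Cfsg.Agent.Lib.CentrallyLarge
import Cfsg.Agent.Lib.RankFrattini
import Cfsg.Agent.S3007

/-!
A minimal centrally large subgroup outside `Q` is traded for one inside, in the pushing-up frame.
-/

set_option autoImplicit false

namespace CfsgLib.PushRankOne

open CfsgLib.CentrallyLarge CfsgLib.Products
open scoped commutatorElement

variable {X : Type*} [Group X]

local notation "ζ" H:max => Subgroup.centralizer (SetLike.coe H)

/-- The Sylow subgroup seen with `Q = O_p(G)` and the module `V`. -/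
structure Frame (Q V : Subgroup X) : Prop where
  normal : Q.Normal
  normalV : V.Normal
  le : V ≤ Q
  cent : V ≤ ζ Q
  center_le : Subgroup.center X ≤ V
  fixed : ∀ x : X, x ∉ Q → ∀ v ∈ V, x * v = v * x → v ∈ Subgroup.center X
  index : Nat.card X * Nat.card (Subgroup.center X) = Nat.card Q * Nat.card V

variable [Finite X] {Q V : Subgroup X}

theorem le_normalizer_all {N : Subgroup X} (hN : N.Normal) (H : Subgroup X) :
    H ≤ Subgroup.normalizer (N : Set X) := by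
  haveI := hN
  rw [Subgroup.normalizer_eq_top]
  exact le_top

theorem center_le_centralizer' (R : Subgroup X) : Subgroup.center X ≤ ζ R := fun x hx y _ =>
  (Subgroup.mem_center_iff.mp hx y)

/-- The trade. -/
theorem Frame.reduce (h : Frame Q V) {R : Subgroup X} (hR : Cfsg.IsMinimalCentrallyLarge R) (hRQ : ¬ R ≤ Q) :
    Cfsg.IsMinimalCentrallyLarge (R ⊓ Q ⊔ V) ∧ R ⊓ Q ⊔ V ≤ Q ∧ Q ⊔ ζ R = ⊤ ∧
      ζ R ⊓ Q ⊔ V ≤ ζ (R ⊓ Q ⊔ V) ∧ V ⊓ ζ R ≤ Subgroup.center X := by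
  haveI := h.normal
  obtain ⟨hZ, hcc⟩ := isMinimalCentrallyLarge_iff.1 hR
  obtain ⟨hRL, hRc⟩ := isCentrallyLarge_iff.1 hR.1
  set Z := ζ R with hZdef
  set c := Nat.card (Subgroup.center X) with hc
  obtain ⟨x, hxR, hxQ⟩ := SetLike.not_le_iff_exists.mp hRQ
  have hZV : V ⊓ Z ≤ Subgroup.center X := fun v hv => h.fixed x hxQ v hv.1 (hv.2 x hxR)
  have hZC : Subgroup.center X ≤ Z := center_le_centralizer' R
  set R' := R ⊓ Q ⊔ V with hR'
  have hR'Q : R' ≤ Q := sup_le inf_le_right h.le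
  have hsub : Z ⊓ Q ⊔ V ≤ ζ R' := by
    rw [hR', centralizer_sup]
    refine sup_le (le_inf (inf_le_left.trans (centralizer_le' inf_le_left))
      (inf_le_right.trans (le_centralizer_comm.1 h.cent))) (le_inf ?_ ?_)
    · exact h.cent.trans (centralizer_le' inf_le_right)
    · exact h.cent.trans (centralizer_le' h.le)
  have e1 : Nat.card ↥R' * Nat.card ↥(V ⊓ R) = Nat.card V * Nat.card ↥(R ⊓ Q) := by
    have := card_sup_mul_card_inf (le_normalizer_all h.normalV (R ⊓ Q))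
    rw [sup_comm] at this
    have hi : V ⊓ (R ⊓ Q) = V ⊓ R := le_antisymm (inf_le_inf_left V inf_le_left)
      (le_inf inf_le_left (le_inf inf_le_right (inf_le_left.trans h.le)))
    rwa [hi] at this
  have hVZ : V ⊓ Z = Subgroup.center X := le_antisymm hZV (le_inf h.center_le hZC)
  have e2 : Nat.card ↥(Z ⊓ Q ⊔ V) * c = Nat.card V * Nat.card ↥(Z ⊓ Q) := by
    have := card_sup_mul_card_inf (le_normalizer_all h.normalV (Z ⊓ Q))
    rw [sup_comm] at this
    have hi : V ⊓ (Z ⊓ Q) = Subgroup.center X := by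
      rw [← hVZ]
      exact le_antisymm (inf_le_inf_left V inf_le_left) (le_inf inf_le_left
        (le_inf inf_le_right (inf_le_left.trans h.le)))
    rwa [hi] at this
  have qR : ∀ H : Subgroup X, Nat.card Q * Nat.card H = Nat.card ↥(Q ⊔ H) * Nat.card ↥(H ⊓ Q) := by
    intro H
    rw [inf_comm H Q]
    exact (card_sup_mul_card_inf (le_normalizer_all h.normal H)).symm
  have hle : ∀ H : Subgroup X, Nat.card ↥(Q ⊔ H) ≤ Nat.card X := fun H => Subgroup.card_le_card_group _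
  have hd : Nat.card R' * Nat.card ↥(ζ R') ≤ Nat.card R * Nat.card Z := hRL R'
  have hZ'card := Subgroup.card_le_of_le hsub
  -- no centre outside `Q` is impossible
  have hZQ : ¬ Z ≤ Q := by
    intro hle'
    have e2' : Nat.card ↥(Z ⊓ Q ⊔ V) * c = Nat.card V * Nat.card Z := by rw [e2, inf_eq_left.mpr hle']
    have key : Nat.card R * Nat.card Z * (Nat.card V * Nat.card X * c) ≤
        Nat.card R' * Nat.card ↥(Z ⊓ Q ⊔ V) * (Nat.card ↥(V ⊓ R) * Nat.card X * c) := by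
      calc Nat.card R * Nat.card Z * (Nat.card V * Nat.card X * c)
          = Nat.card Q * Nat.card R * (Nat.card V * (Nat.card V * Nat.card Z)) := by
            have := h.index
            rw [mul_assoc (Nat.card V) (Nat.card X) c, this]; ring
        _ ≤ Nat.card X * Nat.card ↥(R ⊓ Q) * (Nat.card V * (Nat.card V * Nat.card Z)) :=
            Nat.mul_le_mul_right _ ((qR R).le.trans (Nat.mul_le_mul_right _ (hle R)))
        _ = (Nat.card V * Nat.card ↥(R ⊓ Q)) * (Nat.card V * Nat.card Z) * Nat.card X := by ring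
        _ = _ := by rw [← e1, ← e2']; ring
    have hm : Nat.card R' * Nat.card ↥(Z ⊓ Q ⊔ V) ≤ Nat.card R * Nat.card Z :=
      (Nat.mul_le_mul_left _ hZ'card).trans hd
    have hVR : Nat.card V ≤ Nat.card ↥(V ⊓ R) := by
      have h1 := key.trans (Nat.mul_le_mul_right _ hm)
      have h2 := Nat.le_of_mul_le_mul_left h1 (Nat.mul_pos Nat.card_pos Nat.card_pos)
      rw [mul_assoc, mul_assoc] at h2
      exact Nat.le_of_mul_le_mul_right h2 (Nat.mul_pos Nat.card_pos Nat.card_pos)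
    have hVR' : V ⊓ R = V := Subgroup.eq_of_le_of_card_ge inf_le_left hVR
    rw [hVR'] at key
    have h3 : Nat.card R * Nat.card Z ≤ Nat.card R' * Nat.card ↥(Z ⊓ Q ⊔ V) :=
      Nat.le_of_mul_le_mul_right key (Nat.mul_pos (Nat.mul_pos Nat.card_pos Nat.card_pos) Nat.card_pos)
    have hL : Large R' := large_of_ge hRL (h3.trans (Nat.mul_le_mul_left _ hZ'card))
    have hζ : Z ⊓ Q ⊔ V = ζ R' := Subgroup.eq_of_le_of_card_ge hsub
      (Nat.le_of_mul_le_mul_left (hd.trans h3) Nat.card_pos)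
    have hR'R : R' ≤ R := sup_le inf_le_left (hVR' ▸ inf_le_right)
    have hc' : ζ R' ≤ R' := by
      rw [← hζ]
      exact sup_le_sup (le_inf (inf_le_left.trans hRc) inf_le_right) le_rfl
    exact hRQ ((hR.2 R' hR'R (isCentrallyLarge_iff.2 ⟨hL, hc'⟩)).ge.trans hR'Q)
  obtain ⟨z, hzZ, hzQ⟩ := SetLike.not_le_iff_exists.mp hZQ
  have hVR : V ⊓ R = Subgroup.center X := le_antisymm
    (fun v hv => h.fixed z hzQ v hv.1 (hzZ v hv.2).symm) (le_inf h.center_le (hZC.trans hRc))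
  rw [hVR, ← hc] at e1
  have hsq : Nat.card R' * Nat.card ↥(Z ⊓ Q ⊔ V) * (Nat.card X * Nat.card X * (c * c)) =
      Nat.card ↥(R ⊓ Q) * Nat.card X * (Nat.card ↥(Z ⊓ Q) * Nat.card X) * (Nat.card V * Nat.card V) := by
    calc _ = (Nat.card R' * c) * (Nat.card ↥(Z ⊓ Q ⊔ V) * c) * (Nat.card X * Nat.card X) := by ring
      _ = _ := by rw [e1, e2]; ring
  have hlow : Nat.card R * Nat.card Z * (Nat.card X * Nat.card X * (c * c)) =
      (Nat.card Q * Nat.card R) * (Nat.card Q * Nat.card Z) * (Nat.card V * Nat.card V) := by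
    calc _ = Nat.card R * Nat.card Z * ((Nat.card X * c) * (Nat.card X * c)) := by ring
      _ = _ := by rw [h.index]; ring
  have hboundR : Nat.card Q * Nat.card R ≤ Nat.card ↥(R ⊓ Q) * Nat.card X :=
    (qR R).le.trans (by rw [mul_comm]; exact Nat.mul_le_mul_left _ (hle R))
  have hboundZ : Nat.card Q * Nat.card Z ≤ Nat.card ↥(Z ⊓ Q) * Nat.card X :=
    (qR Z).le.trans (by rw [mul_comm]; exact Nat.mul_le_mul_left _ (hle Z))
  have hpos : 0 < Nat.card X * Nat.card X * (c * c) :=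
    Nat.mul_pos (Nat.mul_pos Nat.card_pos Nat.card_pos) (Nat.mul_pos Nat.card_pos Nat.card_pos)
  have hge : Nat.card R * Nat.card Z ≤ Nat.card R' * Nat.card ↥(Z ⊓ Q ⊔ V) :=
    Nat.le_of_mul_le_mul_right (hlow.le.trans ((Nat.mul_le_mul_right _ (Nat.mul_le_mul hboundR hboundZ)).trans hsq.ge)) hpos
  have hL : Large R' := large_of_ge hRL (hge.trans (Nat.mul_le_mul_left _ hZ'card))
  have hζ : Z ⊓ Q ⊔ V = ζ R' := Subgroup.eq_of_le_of_card_ge hsub
    (Nat.le_of_mul_le_mul_left (hd.trans hge) Nat.card_pos)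
  have hc' : ζ R' ≤ R' := by
    rw [← hζ]
    exact sup_le_sup (le_inf (inf_le_left.trans hRc) inf_le_right) le_rfl
  have hZtop : Q ⊔ Z = ⊤ := by
    refine Subgroup.eq_top_of_le_card _ ?_
    have hup : Nat.card R' * Nat.card ↥(Z ⊓ Q ⊔ V) ≤ Nat.card R * Nat.card Z :=
      (Nat.mul_le_mul_left _ hZ'card).trans hd
    have h1 := hsq.ge.trans ((Nat.mul_le_mul_right _ hup).trans hlow.le)
    have h2 : Nat.card ↥(Z ⊓ Q) * Nat.card X ≤ Nat.card Q * Nat.card Z := by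
      have h3 := Nat.le_of_mul_le_mul_right h1 (Nat.mul_pos Nat.card_pos Nat.card_pos)
      exact Nat.le_of_mul_le_mul_left (h3.trans (Nat.mul_le_mul_right _ hboundR)) (Nat.mul_pos Nat.card_pos Nat.card_pos)
    rw [qR Z, mul_comm] at h2
    exact Nat.le_of_mul_le_mul_right h2 Nat.card_pos
  refine ⟨⟨isCentrallyLarge_iff.2 ⟨hL, hc'⟩, ?_⟩, hR'Q, hZtop, hsub, hZV⟩
  -- minimality
  intro R'' hle'' hR''
  obtain ⟨R₀, hR₀, hR₀min⟩ := Set.exists_min_image {L : Subgroup X | L ≤ R'' ∧ Cfsg.IsCentrallyLarge L}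
    (fun L => Nat.card L) (Set.toFinite _) ⟨R'', le_rfl, hR''⟩
  have hmin₀ : Cfsg.IsMinimalCentrallyLarge R₀ :=
    ⟨hR₀.2, fun L hL hLc => Subgroup.eq_of_le_of_card_ge hL (hR₀min L ⟨hL.trans hR₀.1, hLc⟩)⟩
  obtain ⟨hZ₀, hcc₀⟩ := isMinimalCentrallyLarge_iff.1 hmin₀
  have hbig : Z ⊓ Q ⊔ V ≤ R₀ := hsub.trans ((centralizer_le' (hR₀.1.trans hle'')).trans
    (isCentrallyLarge_iff.1 hR₀.2).2)
  have hcomp := (hZ.compare hZ₀).1
  rw [hcc, hcc₀] at hcomp
  refine le_antisymm hle'' (le_trans (sup_le ?_ (le_sup_right.trans hbig)) hR₀.1)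
  intro r hr
  obtain ⟨s, hs, w, hw, rfl⟩ := mem_sup_of_centralizes
    ((inf_le_left : R ⊓ R₀ ≤ R).trans hcc.ge) (hcomp.ge hr.1)
  have hsQ : s ∈ Q := hR'Q (hle'' (hR₀.1 hs.2))
  have hwQ : w ∈ Q := by simpa using Q.mul_mem (Q.inv_mem hsQ) hr.2
  exact R₀.mul_mem hs.2 (hbig (Subgroup.mem_sup_left ⟨hw, hwQ⟩))

theorem exists_minimalCL : ∃ R : Subgroup X, Cfsg.IsMinimalCentrallyLarge R := by
  obtain ⟨R, hR, hle⟩ := exists_large_centralizer_le (G := X)
  obtain ⟨Z, hZ, -⟩ := exists_maxLarge hR.centralizer (by rwa [hR.centralizer_centralizer])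
  exact ⟨_, hZ.isMinimal⟩

theorem Frame.exists_inside (h : Frame Q V) : ∃ R : Subgroup X, Cfsg.IsMinimalCentrallyLarge R ∧ R ≤ Q := by
  obtain ⟨R, hR⟩ := exists_minimalCL (X := X)
  by_cases hRQ : R ≤ Q
  · exact ⟨R, hR, hRQ⟩
  · exact ⟨_, (h.reduce hR hRQ).1, (h.reduce hR hRQ).2.1⟩

theorem commutator_eq_of_minimal {R R' : Subgroup X} (hR : Cfsg.IsMinimalCentrallyLarge R)
    (hR' : Cfsg.IsMinimalCentrallyLarge R') : ⁅R, R⁆ = ⁅R', R'⁆ := by
  obtain ⟨hZ, hcc⟩ := isMinimalCentrallyLarge_iff.1 hR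
  obtain ⟨hZ', hcc'⟩ := isMinimalCentrallyLarge_iff.1 hR'
  have := hZ.commutator_eq hZ'
  rwa [hcc, hcc'] at this

theorem omegaOneCenter_eq (p : ℕ) (R : Subgroup X) :
    Cfsg.omegaOneCenter p R = Cfsg.omegaOne p (R ⊓ ζ R) := rfl

theorem pow_of_mem_omegaOne {p : ℕ} {A : Subgroup X} (hA : ∀ a ∈ A, ∀ b ∈ A, a * b = b * a) {x : X}
    (hx : x ∈ Cfsg.omegaOne p A) : x ∈ A ∧ x ^ p = 1 := by
  induction hx using Subgroup.closure_induction with
  | mem x hx => exact hx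
  | one => exact ⟨A.one_mem, one_pow _⟩
  | mul a b _ _ ha hb => exact ⟨A.mul_mem ha.1 hb.1, by
      rw [Commute.mul_pow (hA a ha.1 b hb.1), ha.2, hb.2, one_mul]⟩
  | inv a _ ha => exact ⟨A.inv_mem ha.1, by rw [inv_pow, ha.2, inv_one]⟩

theorem frattini_facts {p : ℕ} [Fact p.Prime] {K : Subgroup X} (hK : IsPGroup p K) :
    (∀ a ∈ K, ∀ b ∈ K, ⁅a, b⁆ ∈ (frattini K).map K.subtype) ∧
      ∀ a ∈ K, a ^ p ∈ (frattini K).map K.subtype := by
  constructor
  · intro a ha b hb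
    exact ⟨⁅(⟨a, ha⟩ : K), ⟨b, hb⟩⁆, CfsgLib.commutator_le_frattini_pGroup hK
      (Subgroup.commutator_mem_commutator (Subgroup.mem_top _) (Subgroup.mem_top _)), by
        simp [commutatorElement_def]⟩
  · intro a ha
    exact ⟨(⟨a, ha⟩ : K) ^ p, CfsgLib.pow_mem_frattini_pGroup hK _, rfl⟩

theorem frattini_map_le {p : ℕ} [Fact p.Prime] {K N : Subgroup X} (hK : IsPGroup p K)
    (hc : ∀ a ∈ K, ∀ b ∈ K, ⁅a, b⁆ ∈ N) (hpow : ∀ a ∈ K, a ^ p ∈ N) :
    (frattini K).map K.subtype ≤ N :=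
  Subgroup.map_le_iff_le_comap.mpr (CfsgLib.RankFrattini.frattini_le_of_elementary hK (N.comap K.subtype)
    (fun a b => by simpa [commutatorElement_def, Subgroup.mem_subgroupOf] using hc a a.2 b b.2)
    (fun a => by simpa [Subgroup.mem_subgroupOf] using hpow a a.2))

/-- The trade keeps `Ω₁` of the centre, when `Ω₁(V)` is as large as `V` modulo the centre. -/
theorem Frame.reduce_omega (h : Frame Q V) {p : ℕ} [Fact p.Prime] (hX : IsPGroup p X)
    (hΩ : Nat.card X * Nat.card ↥(Cfsg.omegaOne p V ⊓ Subgroup.center X) = Nat.card Q * Nat.card ↥(Cfsg.omegaOne p V))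
    {R : Subgroup X} (hR : Cfsg.IsMinimalCentrallyLarge R) (hRQ : ¬ R ≤ Q)
    (hmax : ∀ R' : Subgroup X, Cfsg.IsMinimalCentrallyLarge R' →
      Nat.card (Cfsg.omegaOneCenter p R') ≤ Nat.card (Cfsg.omegaOneCenter p R)) :
    Nat.card (Cfsg.omegaOneCenter p (R ⊓ Q ⊔ V)) = Nat.card (Cfsg.omegaOneCenter p R) ∧
      (frattini R).map R.subtype ≤ (frattini ↥(R ⊓ Q ⊔ V)).map (R ⊓ Q ⊔ V).subtype := by
  haveI := h.normal
  obtain ⟨hR', hR'Q, -, hsub, hZV⟩ := h.reduce hR hRQ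
  set R' := R ⊓ Q ⊔ V with hR'def
  set O := Cfsg.omegaOneCenter p R with hO
  set W := Cfsg.omegaOne p V with hW
  have hVab : ∀ a ∈ V, ∀ b ∈ V, a * b = b * a := fun a ha b hb => h.cent hb a (h.le ha)
  have hWV : W ≤ V := fun x hx => (pow_of_mem_omegaOne hVab hx).1
  have hRc : ζ R ≤ R := (isCentrallyLarge_iff.1 hR.1).2
  have hZab : ∀ a ∈ R ⊓ ζ R, ∀ b ∈ R ⊓ ζ R, a * b = b * a := fun a ha b hb => hb.2 a ha.1
  have hOmem : ∀ x ∈ O, x ∈ ζ R ∧ x ^ p = 1 := fun x hx =>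
    ⟨(pow_of_mem_omegaOne hZab hx).1.2, (pow_of_mem_omegaOne hZab hx).2⟩
  have hO'sub : O ⊓ Q ⊔ W ≤ Cfsg.omegaOneCenter p R' := by
    refine sup_le (fun x hx => Subgroup.subset_closure ?_) (fun x hx => Subgroup.subset_closure ?_)
    · exact ⟨⟨Subgroup.mem_sup_left ⟨hRc (hOmem x hx.1).1, hx.2⟩,
        hsub (Subgroup.mem_sup_left ⟨(hOmem x hx.1).1, hx.2⟩)⟩, (hOmem x hx.1).2⟩
    · exact ⟨⟨Subgroup.mem_sup_right (hWV hx), hsub (Subgroup.mem_sup_right (hWV hx))⟩,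
        (pow_of_mem_omegaOne hVab hx).2⟩
  have h1 := card_sup_of_centralizes (H := W) (K := O ⊓ Q)
    ((hWV.trans h.cent).trans (centralizer_le' inf_le_right))
  rw [sup_comm] at h1
  have h2 : Nat.card ↥(W ⊓ (O ⊓ Q)) ≤ Nat.card ↥(W ⊓ Subgroup.center X) :=
    Subgroup.card_le_of_le (le_inf inf_le_left fun x hx => hZV ⟨hWV hx.1, (hOmem x hx.2.1).1⟩)
  have h3 : Nat.card Q * Nat.card O = Nat.card ↥(Q ⊔ O) * Nat.card ↥(O ⊓ Q) := by
    rw [inf_comm O Q]
    exact (card_sup_mul_card_inf (le_normalizer_all h.normal O)).symm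
  have hOle := Subgroup.card_le_of_le hO'sub
  have hO'max := hmax R' hR'
  set c := Nat.card ↥(W ⊓ Subgroup.center X)
  have key : Nat.card O * c * Nat.card X ≤ Nat.card ↥(O ⊓ Q ⊔ W) * c * Nat.card ↥(Q ⊔ O) := by
    calc Nat.card O * c * Nat.card X = Nat.card Q * Nat.card O * Nat.card W := by
          rw [mul_assoc, mul_comm c, hΩ]; ring
      _ = Nat.card ↥(Q ⊔ O) * (Nat.card W * Nat.card ↥(O ⊓ Q)) := by rw [h3]; ring
      _ = Nat.card ↥(Q ⊔ O) * (Nat.card ↥(O ⊓ Q ⊔ W) * Nat.card ↥(W ⊓ (O ⊓ Q))) := by rw [h1]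
      _ ≤ Nat.card ↥(Q ⊔ O) * (Nat.card ↥(O ⊓ Q ⊔ W) * c) := Nat.mul_le_mul_left _ (Nat.mul_le_mul_left _ h2)
      _ = _ := by ring
  have hge : Nat.card O ≤ Nat.card (Cfsg.omegaOneCenter p R') :=
    Nat.le_of_mul_le_mul_right (key.trans (Nat.mul_le_mul (Nat.mul_le_mul_right _ hOle) (Subgroup.card_le_card_group _)) |>
      fun h => (mul_assoc _ c _) ▸ h.trans_eq (mul_assoc _ c _)) (Nat.mul_pos Nat.card_pos Nat.card_pos)
  have htop : Q ⊔ O = ⊤ := by
    refine Subgroup.eq_top_of_le_card _ ?_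
    have := key.trans (Nat.mul_le_mul_right _ (Nat.mul_le_mul_right _ (hOle.trans hO'max)))
    exact Nat.le_of_mul_le_mul_left this (Nat.mul_pos Nat.card_pos Nat.card_pos)
  refine ⟨le_antisymm hO'max hge, ?_⟩
  set N := (frattini ↥R').map R'.subtype with hN
  obtain ⟨hNc, hNp⟩ := frattini_facts (hX.to_subgroup R')
  have hsplit : ∀ a ∈ R, ∃ n ∈ R', ∃ o ∈ O, a = n * o ∧ n ∈ R := by
    intro a ha
    obtain ⟨q, hq, o, ho, e⟩ : ∃ q ∈ Q, ∃ o ∈ O, q * o = a := by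
      have hm : a ∈ ((Q ⊔ O : Subgroup X) : Set X) := by rw [htop]; exact Set.mem_univ _
      rw [Subgroup.coe_mul_of_right_le_normalizer_left Q O (le_normalizer_all h.normal O)] at hm
      exact Set.mem_mul.mp hm
    have hqR : q ∈ R := by
      have : q = a * o⁻¹ := by rw [← e]; group
      rw [this]; exact R.mul_mem ha (R.inv_mem (hRc (hOmem o ho).1))
    exact ⟨q, Subgroup.mem_sup_left ⟨hqR, hq⟩, o, ho, e.symm, hqR⟩
  refine frattini_map_le (hX.to_subgroup R) (fun a ha b hb => ?_) (fun a ha => ?_)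
  · obtain ⟨n, hn, o, ho, rfl, hnR⟩ := hsplit a ha
    obtain ⟨m, hm, u, hu, rfl, hmR⟩ := hsplit b hb
    have c1 : Commute o m := ((hOmem o ho).1 m hmR).symm
    have c2 : Commute u n := ((hOmem u hu).1 n hnR).symm
    have c3 : Commute o u := (hOmem u hu).1 o (hRc (hOmem o ho).1)
    have e : ⁅n * o, m * u⁆ = ⁅n, m⁆ := by
      simp only [commutatorElement_def]
      calc n * o * (m * u) * (n * o)⁻¹ * (m * u)⁻¹
          = n * (o * m) * u * o⁻¹ * n⁻¹ * u⁻¹ * m⁻¹ := by group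
        _ = n * m * (o * u) * o⁻¹ * n⁻¹ * u⁻¹ * m⁻¹ := by rw [c1.eq]; group
        _ = n * m * (u * n⁻¹) * u⁻¹ * m⁻¹ := by rw [c3.eq]; group
        _ = _ := by rw [c2.inv_right.eq]; group
    rw [e]
    exact hNc n hn m hm
  · obtain ⟨n, hn, o, ho, rfl, hnR⟩ := hsplit a ha
    have c1 : Commute n o := (hOmem o ho).1 n hnR
    rw [c1.mul_pow, (hOmem o ho).2, mul_one]
    exact hNp n hn

end CfsgLib.PushRankOne
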