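import Mathlib
import Cfsg.Prelude.Def_BaumannBlocks
import Cfsg.Agent.Lib.PushRankOne.Main
import Cfsg.Agent.Lib.PushRankOne.CLFrame

/-!
Centrally large subgroups in the pushing-up situation.
-/

set_option autoImplicit false

namespace CfsgLib.PushRankOne

open Cfsg Subgroup CfsgLib.ZJ
open scoped commutatorElement

universe u
variable {G : Type u} [Group G] {p : ℕ}

theorem setting_of_situation [Finite G] [Fact p.Prime] {P : Subgroup G} (h : IsPushingUpSituation p P) :
    ∃ S : Sylow p G, (S : Subgroup G) = P ∧ Setting S := by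
  obtain ⟨-, ⟨S, rfl⟩, hE₁, hE₂, K, hK, F, _, _, n, hF, hE₃⟩ := h
  refine ⟨S, rfl, ?_⟩
  haveI := hK
  refine setting S hE₁ hE₂ K F n (Nat.one_le_iff_ne_zero.mpr fun hn => ?_) hF hE₃
  have := Fintype.one_lt_card (α := F)
  rw [hF, hn, pow_zero] at this
  exact lt_irrefl _ this

variable [Finite G] [Fact p.Prime] {S : Sylow p G}

theorem not_le_core (hS : Setting S) : ¬ (S : Subgroup G) ≤ pCore p G := fun h =>
  let ⟨_, hx, hxQ⟩ := hS.exists_mem
  hxQ (h hx)

theorem exists_natural (hS : Setting S)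
    (hJ : (S : Subgroup G) ≤ centralizer (zj 0 (S : Subgroup G) : Set G)) (hz : ¬ zs S ≤ center G) :
    ∃ g : G, (∀ x ∈ (S : Subgroup G), x ∉ pCore p G →
      Subgroup.closure {x} ⊔ (S : Subgroup G).map (MulAut.conj g).toMonoidHom = ⊤) ∧
      Mdl S (normalClosure (zs S : Set G)) ∧ Nat2 S (normalClosure (zs S : Set G)) g := by
  have hn : ¬ (zs S).Normal := fun h => hz (center_of_zs_normal hS h)
  set V := normalClosure (zs S : Set G)
  have hV : Mdl S V := mdl_closure hS hn
  haveI : V.Normal := hV.normal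
  obtain ⟨A, hA, hAQ⟩ : ∃ A ∈ goodMax 0 (S : Subgroup G), ¬ A ≤ pCore p G := by
    by_contra hall
    push Not at hall
    rcases case_inside hS hall with h | h
    · exact hz h
    · rw [inf_eq_left.mpr hJ] at h
      exact not_le_core hS (@CfsgLib.le_pCore _ _ p _ h S.isPGroup')
  have hVS : V ≤ (S : Subgroup G) := hV.le.trans hS.core_le
  set Q := pCore p G with hQ
  haveI hQn : Q.Normal := inferInstance
  have hfx : fx V A = A ⊓ V := le_antisymm
    (fun v hv => ⟨mem_of_centralizes hA (hVS hv.1) hv.2, hv.1⟩)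
    (fun v hv => ⟨hv.2, fun a ha => hA.2.1.1 a ha v hv.1⟩)
  have hg : IsGood 0 (A ⊓ Q ⊔ V) := isGood_sup (isGood_of_comm fun a ha b hb => hA.2.1.1 a ha.1 b hb.1)
    (isGood_of_comm hV.comm) (fun a ha v hv => hV.cent v hv a ha.2)
  have h1 := card_mul_eq_of_le_normalizer (H := V) (K := A ⊓ Q) (le_normalizer_of_normal' hV.normal _)
  have h2 : V ⊓ (A ⊓ Q) = fx V A := by
    rw [hfx]
    exact le_antisymm (le_inf (inf_le_right.trans inf_le_left) inf_le_left)
      (le_inf inf_le_right (le_inf inf_le_left (inf_le_right.trans hV.le)))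
  rw [h2, sup_comm] at h1
  have h3 : Nat.card Q * Nat.card A = Nat.card ↥(Q ⊔ A) * Nat.card ↥(A ⊓ Q) := by
    rw [inf_comm A Q]
    exact card_mul_eq_of_le_normalizer (le_normalizer_of_normal' hQn A)
  have h4 : fx V (Q ⊔ A) = fx V A := by
    rw [fx_sup, hV.fx_core]
    exact inf_eq_right.mpr inf_le_left
  obtain ⟨g, hgg, hN⟩ := natural hS hV ⟨Q ⊔ A, le_sup_left, sup_le hS.core_le hA.1,
    fun e => hAQ (le_sup_right.trans e.le), by
      rw [h4]
      refine Nat.le_of_mul_le_mul_right ?_ (Nat.card_pos (α := ↥(A ⊓ Q)))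
      calc Nat.card Q * Nat.card V * Nat.card ↥(A ⊓ Q)
          = Nat.card Q * (Nat.card ↥(A ⊓ Q ⊔ V) * Nat.card (fx V A)) := by rw [mul_assoc, h1]
        _ ≤ Nat.card Q * (Nat.card A * Nat.card (fx V A)) := Nat.mul_le_mul le_rfl
            (Nat.mul_le_mul (hA.2.2 _ (sup_le (inf_le_left.trans hA.1) hVS) hg) le_rfl)
        _ = _ := by rw [← mul_assoc, h3]; ring⟩
  exact ⟨g, hgg, hV, hN⟩

theorem fx_eq_zs : fx (normalClosure (zs S : Set G)) (S : Subgroup G) ≤ centralizer ((S : Subgroup G) : Set G) :=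
  inf_le_right

theorem center_map (R : Subgroup G) : (center R).map R.subtype = R ⊓ centralizer (R : Set G) := by
  ext x
  constructor
  · rintro ⟨y, hy, rfl⟩
    exact ⟨y.2, fun z hz => congrArg Subtype.val (Subgroup.mem_center_iff.1 hy ⟨z, hz⟩)⟩
  · rintro ⟨hx, hc⟩
    exact ⟨⟨x, hx⟩, Subgroup.mem_center_iff.2 fun z => Subtype.ext (hc z z.2), rfl⟩

/-- The frame inside `S`. -/
theorem frame (hS : Setting S) {g : G} {V : Subgroup G} (hV : Mdl S V) (hN : Nat2 S V g)
    (hzV : zs S ≤ V) : Frame ((pCore p G).subgroupOf (S : Subgroup G)) (V.subgroupOf (S : Subgroup G)) := by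
  haveI := hV.normal
  have hzmap : (center ↥(S : Subgroup G)).map (S : Subgroup G).subtype = zs S := center_map _
  refine ⟨inferInstance, inferInstance, fun x hx => hV.le hx, fun v hv q hq => ?_, fun x hx => ?_, fun x hx v hv h => ?_, ?_⟩
  · exact Subtype.ext (hV.cent v hv q hq)
  · exact hzV (hzmap.le ⟨x, hx, rfl⟩)
  · rw [Subgroup.mem_center_iff]
    intro y
    exact Subtype.ext ((hN.fixed x x.2 hx v hv (congrArg Subtype.val h)).2 y y.2)
  · have hF : fx V (S : Subgroup G) = zs S := le_antisymm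
      (fun v hv => ⟨(hV.le.trans hS.core_le) hv.1, hv.2⟩) (le_inf hzV inf_le_right)
    have hc : Nat.card (center ↥(S : Subgroup G)) = Nat.card (zs S) := by
      rw [← hzmap, Subgroup.card_map_of_injective (S : Subgroup G).subtype_injective]
    rw [hc, Nat.card_congr (Subgroup.subgroupOfEquivOfLe hS.core_le).toEquiv,
      Nat.card_congr (Subgroup.subgroupOfEquivOfLe (hV.le.trans hS.core_le)).toEquiv, ← hF]
    exact hN.index

theorem omega_index (hS : Setting S) {g : G} {V : Subgroup G} (hV : Mdl S V) (hN : Nat2 S V g)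
    (hpow : ∀ v ∈ V, v ^ p ∈ center G) (hzV : zs S ≤ V) (hz : ¬ zs S ≤ center G) :
    Nat.card (S : Subgroup G) * Nat.card ↥(fx (omegaOne p V) (S : Subgroup G)) =
      Nat.card (pCore p G) * Nat.card ↥(omegaOne p V) := by
  set W := omegaOne p V with hW
  set P := (S : Subgroup G) with hP
  have hWV : W ≤ V := fun x hx => (pow_of_mem_omegaOne hV.comm hx).1
  have hWn : W.Normal := ⟨fun x hx y => Subgroup.subset_closure
    ⟨hV.normal.conj_mem x (hWV hx) y, by
      have h := (pow_of_mem_omegaOne hV.comm hx).2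
      have e : y * x * y⁻¹ = (MulAut.conj y) x := rfl
      rw [e, ← map_pow, h, map_one]⟩⟩
  have hcommW : ∀ s ∈ P, ∀ v ∈ V, s * v * s⁻¹ * v⁻¹ ∈ fx W P := by
    intro s hs v hv
    refine ⟨Subgroup.subset_closure ⟨hV.comm_mem hv s, ?_⟩, (hN.quad s hs v hv).2⟩
    have hc : Commute (s * v * s⁻¹) v⁻¹ := hV.comm _ (hV.mem_conj hv s) _ (V.inv_mem hv)
    rw [hc.mul_pow]
    have e : s * v * s⁻¹ = (MulAut.conj s) v := rfl
    rw [e, ← map_pow, inv_pow, MulAut.conj_apply, Subgroup.mem_center_iff.mp (hpow v hv) s,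
      mul_inv_cancel_right, mul_inv_cancel]
  have hnot : ¬ fx W P ≤ center G := by
    intro hle
    refine hz fun z hz' => ?_
    have hzV' := hzV hz'
    let H : Subgroup G :=
      { carrier := {y | ∀ v ∈ V, y * v * y⁻¹ * v⁻¹ ∈ center G}
        one_mem' := fun v _ => by simpa using (center G).one_mem
        mul_mem' := fun {a c} ha hc v hv => by
          have e : a * c * v * (a * c)⁻¹ * v⁻¹ = (a * (c * v * c⁻¹ * v⁻¹) * a⁻¹) * (a * v * a⁻¹ * v⁻¹) := by group
          rw [e]
          exact mul_mem (Subgroup.Normal.conj_mem inferInstance _ (hc v hv) a) (ha v hv)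
        inv_mem' := fun {a} ha v hv => by
          have e : a⁻¹ * v * a⁻¹⁻¹ * v⁻¹ = a⁻¹ * (a * v * a⁻¹ * v⁻¹)⁻¹ * a⁻¹⁻¹ := by group
          rw [e]
          exact Subgroup.Normal.conj_mem inferInstance _ (inv_mem (ha v hv)) a⁻¹ }
    haveI : H.Normal := ⟨fun y hy c v hv => by
      have e : c * y * c⁻¹ * v * (c * y * c⁻¹)⁻¹ * v⁻¹ =
          c * (y * (c⁻¹ * v * c) * y⁻¹ * (c⁻¹ * v * c)⁻¹) * c⁻¹ := by group
      rw [e]
      exact Subgroup.Normal.conj_mem inferInstance _ (hy _ (by simpa using hV.normal.conj_mem v hv c⁻¹)) c⟩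
    have hPH : P ≤ H := fun s hs v hv => hle (hcommW s hs v hv)
    have hH : H = ⊤ := by
      rcases hS.normal_cases H inferInstance with h | h
      · rwa [sup_eq_left.mpr hPH] at h
      · obtain ⟨x, hx, hxQ⟩ := hS.exists_mem
        exact absurd (h ⟨hPH hx, hx⟩) hxQ
    haveI : (centralizer {z} : Subgroup G).Normal := ⟨fun y hy c => by
      rw [mem_centralizer_singleton_iff] at hy ⊢
      have hd : c⁻¹ * z * c⁻¹⁻¹ * z⁻¹ ∈ center G := (hH.ge (mem_top c⁻¹) : c⁻¹ ∈ H) z hzV'
      set d := c⁻¹ * z * c⁻¹⁻¹ * z⁻¹ with hd'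
      have hdy : Commute y d := Subgroup.mem_center_iff.mp hd y
      have hy' : Commute y (c⁻¹ * z * c) := by
        have e : c⁻¹ * z * c = d * z := by rw [hd']; group
        rw [e]; exact hdy.mul_right hy
      calc c * y * c⁻¹ * z = c * (y * (c⁻¹ * z * c)) * c⁻¹ := by group
        _ = c * ((c⁻¹ * z * c) * y) * c⁻¹ := by rw [hy'.eq]
        _ = _ := by group⟩
    have hPz : P ≤ centralizer {z} := fun s hs => mem_centralizer_singleton_iff.mpr (hz'.2 s hs)
    rcases hS.normal_cases (centralizer {z}) inferInstance with h | h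
    · rw [sup_eq_left.mpr hPz] at h
      exact Subgroup.mem_center_iff.mpr fun y => mem_centralizer_singleton_iff.mp (h.ge (mem_top y))
    · obtain ⟨x, hx, hxQ⟩ := hS.exists_mem
      exact absurd (h ⟨hPz hx, hx⟩) hxQ
  have hMdl : Mdl S W := by
    refine ⟨hWn, hWV.trans hV.le, fun a ha b hb => hV.comm a (hWV ha) b (hWV hb),
      fun v hv => hV.cent v (hWV hv), fun hle => ?_, hnot⟩
    apply hnot
    intro v hv
    have hc : (centralizer (W : Set G)).Normal := by
      haveI := hWn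
      infer_instance
    rcases hS.normal_cases _ hc with h | h
    · exact eq_center_of_centralized h (fun y hy => (hy v hv.1).symm) (fun y hy => hv.2 y hy)
    · obtain ⟨x, hx, hxQ⟩ := hS.exists_mem
      exact absurd (h ⟨hle hx, hx⟩) hxQ
  obtain ⟨g', -, hN'⟩ := natural hS hMdl ⟨P, hS.core_le, le_rfl,
    fun e => not_le_core hS e.le, by
      have h1 := card_mul_eq_of_le_normalizer (H := W) (K := fx V P) (le_normalizer_of_normal' hWn _)
      have h2 : W ⊓ fx V P = fx W P := le_antisymm (fun x hx => ⟨hx.1, hx.2.2⟩)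
        (fun x hx => ⟨hx.1, hWV hx.1, hx.2⟩)
      rw [h2] at h1
      refine Nat.le_of_mul_le_mul_right ?_ (Nat.card_pos (α := ↥(fx V P)))
      calc Nat.card (pCore p G) * Nat.card W * Nat.card (fx V P)
          = Nat.card (pCore p G) * (Nat.card ↥(W ⊔ fx V P) * Nat.card (fx W P)) := by rw [mul_assoc, h1]
        _ ≤ Nat.card (pCore p G) * (Nat.card V * Nat.card (fx W P)) := Nat.mul_le_mul_left _
            (Nat.mul_le_mul_right _ (Subgroup.card_le_of_le (sup_le hWV inf_le_left)))
        _ = Nat.card P * Nat.card (fx V P) * Nat.card (fx W P) := by rw [hN.index]; ring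
        _ = _ := by ring⟩
  exact hN'.index

theorem map_omegaOne {H : Type*} [Group H] {f : H →* G} (hf : Function.Injective f) (A : Subgroup H) :
    (omegaOne p A).map f = omegaOne p (A.map f) := by
  rw [omegaOne, omegaOne, MonoidHom.map_closure]
  congr 1
  ext x
  constructor
  · rintro ⟨y, ⟨hy, hy'⟩, rfl⟩
    exact ⟨⟨y, hy, rfl⟩, by rw [← map_pow, hy', map_one]⟩
  · rintro ⟨⟨y, hy, rfl⟩, hx⟩
    exact ⟨y, ⟨hy, hf (by rw [map_pow, hx, map_one])⟩, rfl⟩

/-! ### Invariance -/

section Invariance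

variable {X : Type*} [Group X] [Finite X]

theorem isCentrallyLarge_congr {R L : Subgroup X} (e : R ≃* L) (h : IsCentrallyLarge R) : IsCentrallyLarge L := by
  rw [IsCentrallyLarge] at h ⊢
  rw [← h, Nat.card_congr e.toEquiv, Nat.card_congr (Subgroup.centerCongr e).toEquiv]

theorem isMinimalCentrallyLarge_congr {R L : Subgroup X} (e : R ≃* L) (h : IsMinimalCentrallyLarge R) :
    IsMinimalCentrallyLarge L := by
  refine ⟨isCentrallyLarge_congr e h.1, fun L' hle hL' => ?_⟩
  set R' := ((L'.subgroupOf L).map e.symm.toMonoidHom).map R.subtype with hR'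
  have e' : L' ≃* R' := ((Subgroup.subgroupOfEquivOfLe hle).symm.trans
    ((L'.subgroupOf L).equivMapOfInjective _ (MulEquiv.injective e.symm))).trans
    (((L'.subgroupOf L).map e.symm.toMonoidHom).equivMapOfInjective _ R.subtype_injective)
  have := h.2 R' (Subgroup.map_subtype_le _) (isCentrallyLarge_congr e' hL')
  refine Subgroup.eq_of_le_of_card_ge hle ?_
  rw [Nat.card_congr e'.toEquiv, this, Nat.card_congr e.toEquiv]

theorem card_omegaOneCenter (R : Subgroup X) :
    Nat.card ↥(omegaOneCenter p R) = Nat.card {x : R // x ∈ center R ∧ x ^ p = 1} := by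
  have hab : ∀ a ∈ R ⊓ centralizer (R : Set X), ∀ b ∈ R ⊓ centralizer (R : Set X), a * b = b * a :=
    fun a ha b hb => hb.2 a ha.1
  refine Nat.card_congr
    { toFun := fun x => ⟨⟨x, (pow_of_mem_omegaOne hab x.2).1.1⟩,
        Subgroup.mem_center_iff.mpr fun y => Subtype.ext ((pow_of_mem_omegaOne hab x.2).1.2 y y.2),
        Subtype.ext (pow_of_mem_omegaOne hab x.2).2⟩
      invFun := fun x => ⟨(x.1 : X), Subgroup.subset_closure ⟨⟨x.1.2, fun y hy =>
        congrArg Subtype.val (Subgroup.mem_center_iff.mp x.2.1 ⟨y, hy⟩)⟩, congrArg Subtype.val x.2.2⟩⟩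
      left_inv := fun x => rfl
      right_inv := fun x => rfl }

theorem card_omegaOneCenter_congr {R L : Subgroup X} (e : R ≃* L) :
    Nat.card ↥(omegaOneCenter p R) = Nat.card ↥(omegaOneCenter p L) := by
  rw [card_omegaOneCenter, card_omegaOneCenter]
  refine Nat.card_congr (e.toEquiv.subtypeEquiv fun x => ?_)
  refine and_congr ?_ ?_
  · constructor
    · intro hx
      rw [Subgroup.mem_center_iff] at hx ⊢
      intro y
      obtain ⟨y, rfl⟩ := e.surjective y
      show e y * e x = e x * e y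
      rw [← map_mul, ← map_mul, hx y]
    · intro hx
      rw [Subgroup.mem_center_iff] at hx ⊢
      exact fun y => e.injective (by rw [map_mul, map_mul]; exact hx (e y))
  · show x ^ p = 1 ↔ e x ^ p = 1
    rw [← map_pow, MulEquiv.map_eq_one_iff]

theorem commutator_characteristic {R : Subgroup X} (hR : IsMinimalCentrallyLarge R) :
    (⁅R, R⁆).Characteristic := by
  refine Subgroup.characteristic_iff_map_eq.mpr fun α => ?_
  rw [Subgroup.map_commutator]
  exact commutator_eq_of_minimal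
    (isMinimalCentrallyLarge_congr (R.equivMapOfInjective _ α.injective) hR) hR

theorem abelian_minimal_iff {R : Subgroup X} (hR : IsMinimalCentrallyLarge R) (h : ⁅R, R⁆ = ⊥) (L : Subgroup X) :
    IsMinimalCentrallyLarge L ↔ L ∈ maxAbelianSubgroups X :=
  Cfsg.Agent.S3007.abelian_iff hR (Subgroup.le_centralizer_iff_isMulCommutative.mp
    (Subgroup.commutator_eq_bot_iff_le_centralizer.mp h)) L

end Invariance

/-- A subgroup transported by conjugation inside `O_p(G)`. -/
theorem exists_conj_inside (hS : Setting S) {R : Subgroup ↥(S : Subgroup G)}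
    (hR : R ≤ (pCore p G).subgroupOf (S : Subgroup G)) (x : G) :
    ∃ (L : Subgroup ↥(S : Subgroup G)) (e : R ≃* L), L ≤ (pCore p G).subgroupOf (S : Subgroup G) ∧
      L.map (S : Subgroup G).subtype = (R.map (S : Subgroup G).subtype).map (MulAut.conj x).toMonoidHom ∧
      ∀ r : R, (((e r : L) : ↥(S : Subgroup G)) : G) = x * ((r : ↥(S : Subgroup G)) : G) * x⁻¹ := by
  haveI : (pCore p G).Normal := inferInstance
  let f : R →* ↥(S : Subgroup G) :=
    { toFun := fun r => ⟨x * ((r : ↥(S : Subgroup G)) : G) * x⁻¹,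
        hS.core_le (Subgroup.Normal.conj_mem inferInstance _ (Subgroup.mem_subgroupOf.mp (hR r.2)) x)⟩
      map_one' := Subtype.ext (by simp)
      map_mul' := fun a b => Subtype.ext (by simp [mul_assoc]) }
  have hf : Function.Injective f := fun a b h => by
    have := congrArg Subtype.val h
    simp only [f, MonoidHom.coe_mk, OneHom.coe_mk, mul_left_inj, mul_right_inj] at this
    exact Subtype.ext (Subtype.ext this)
  refine ⟨f.range, MonoidHom.ofInjective hf, ?_, ?_, fun r => rfl⟩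
  · rintro _ ⟨r, rfl⟩
    exact Subgroup.Normal.conj_mem inferInstance _ (Subgroup.mem_subgroupOf.mp (hR r.2)) x
  · ext y
    constructor
    · rintro ⟨_, ⟨r, rfl⟩, rfl⟩
      exact ⟨_, ⟨r, r.2, rfl⟩, rfl⟩
    · rintro ⟨_, ⟨r, hr, rfl⟩, rfl⟩
      exact ⟨f ⟨r, hr⟩, ⟨_, rfl⟩, rfl⟩

theorem normal_sSup_of_invariant {𝓡 : Set (Subgroup G)}
    (h : ∀ R ∈ 𝓡, ∀ x : G, R.map (MulAut.conj x).toMonoidHom ≤ sSup 𝓡) : (sSup 𝓡).Normal :=
  ⟨fun y hy x => by
    have : sSup 𝓡 ≤ (sSup 𝓡).comap (MulAut.conj x).toMonoidHom :=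
      sSup_le fun R hR => Subgroup.map_le_iff_le_comap.mp (h R hR x)
    exact this hy⟩

/-- The derived subgroup of a minimal centrally large subgroup meets the centre centrally, or
they generate a normal subgroup. -/
theorem derived_main (hS : Setting S)
    (hJ : (S : Subgroup G) ≤ centralizer (zj 0 (S : Subgroup G) : Set G))
    {R₀ : Subgroup ↥(S : Subgroup G)} (hR₀ : IsMinimalCentrallyLarge R₀) :
    (zs S ⊓ (⁅R₀, R₀⁆).map (S : Subgroup G).subtype).Normal ∨
      ((minimalCentrallyLargeJoin ↥(S : Subgroup G)).map (S : Subgroup G).subtype).Normal := by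
  set Qx := (pCore p G).subgroupOf (S : Subgroup G) with hQx
  by_cases hz : zs S ≤ center G
  · exact Or.inl (normal_of_le_center (inf_le_left.trans hz))
  obtain ⟨g, -, hV, hN⟩ := exists_natural hS hJ hz
  have hF := frame hS hV hN Subgroup.le_normalClosure
  by_cases hall : ∀ R : Subgroup (S : Subgroup G), IsMinimalCentrallyLarge R → R ≤ Qx
  · refine Or.inr ?_
    rw [minimalCentrallyLargeJoin, (Subgroup.gc_map_comap _).l_sSup, ← sSup_image]
    refine normal_sSup_of_invariant ?_
    rintro _ ⟨R, hR, rfl⟩ x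
    obtain ⟨L, e, -, hmap, -⟩ := exists_conj_inside hS (hall R hR) x
    rw [← hmap]
    exact le_sSup ⟨L, isMinimalCentrallyLarge_congr e hR, rfl⟩
  push Not at hall
  obtain ⟨R, hR, hRQ⟩ := hall
  obtain ⟨hR', hR'Q, htop, -, -⟩ := hF.reduce hR hRQ
  refine Or.inl (normal_of_le_center ?_)
  set D := (⁅R₀, R₀⁆).map (S : Subgroup G).subtype with hD
  have hDn : D.Normal := ⟨fun y hy x => by
    obtain ⟨L, e, -, hmap, -⟩ := exists_conj_inside hS hR'Q x
    have hD' : D.map (MulAut.conj x).toMonoidHom = D := by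
      rw [hD, commutator_eq_of_minimal hR₀ hR', Subgroup.map_commutator, Subgroup.map_commutator, ← hmap,
        ← Subgroup.map_commutator,
        commutator_eq_of_minimal (isMinimalCentrallyLarge_congr e hR') hR', Subgroup.map_commutator]
    exact hD' ▸ ⟨y, hy, rfl⟩⟩
  haveI := hDn
  -- an element outside `Q` centralizes `D`
  obtain ⟨z, hzR, hzQ⟩ : ∃ z ∈ centralizer (R : Set (S : Subgroup G)), z ∉ Qx := by
    by_contra hno
    push Not at hno
    rw [sup_eq_left.mpr hno] at htop
    exact not_le_core hS fun s hs => (htop.ge (mem_top (⟨s, hs⟩ : (S : Subgroup G))) : (⟨s, hs⟩ : (S : Subgroup G)) ∈ Qx)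
  have hzD : (z : G) ∈ centralizer (D : Set G) := by
    rw [hD, commutator_eq_of_minimal hR₀ hR]
    rintro _ ⟨d, hd, rfl⟩
    exact congrArg Subtype.val (hzR d (Subgroup.commutator_le_self R hd))
  intro x hx
  rcases hS.normal_cases (centralizer (D : Set G)) inferInstance with h | h
  · exact eq_center_of_centralized h (fun y hy => (hy x hx.2).symm) (fun y hy => hx.1.2 y hy)
  · exact absurd (h ⟨hzD, z.2⟩) hzQ

/-- The Frattini join is normal, or the centre is. -/
theorem frattini_main (hS : Setting S)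
    (hJ : (S : Subgroup G) ≤ centralizer (zj 0 (S : Subgroup G) : Set G)) :
    (zs S).Normal ∨ ((frattiniOfMinimalCLJoin p ↥(S : Subgroup G)).map (S : Subgroup G).subtype).Normal := by
  set P := (S : Subgroup G) with hP
  set Qx := (pCore p G).subgroupOf P with hQx
  by_cases hz : zs S ≤ center G
  · exact Or.inl (normal_of_le_center hz)
  obtain ⟨g, -, hV, hN⟩ := exists_natural hS hJ hz
  set V := normalClosure (zs S : Set G) with hVdef
  have hF := frame hS hV hN Subgroup.le_normalClosure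
  rcases trichotomy hS with h | h | ⟨hn, hout⟩
  · exact absurd h hz
  · rw [inf_eq_left.mpr hJ] at h
    exact absurd (@CfsgLib.le_pCore _ _ p _ h S.isPGroup') (not_le_core hS)
  refine Or.inr ?_
  set Vx := V.subgroupOf P with hVx
  have hVP : V ≤ P := hV.le.trans hS.core_le
  have hΩ : Nat.card P * Nat.card ↥(omegaOne p Vx ⊓ center P) = Nat.card Qx * Nat.card ↥(omegaOne p Vx) := by
    have hmapV : (omegaOne p Vx).map P.subtype = omegaOne p V := by
      rw [map_omegaOne P.subtype_injective, hVx, Subgroup.subgroupOf_map_subtype, inf_eq_left.mpr hVP]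
    have h1 : Nat.card ↥(omegaOne p Vx) = Nat.card ↥(omegaOne p V) := by
      rw [← hmapV, Subgroup.card_map_of_injective P.subtype_injective]
    have h2 : Nat.card ↥(omegaOne p Vx ⊓ center P) = Nat.card ↥(fx (omegaOne p V) P) := by
      have e : (omegaOne p Vx ⊓ center P).map P.subtype = fx (omegaOne p V) P := by
        rw [Subgroup.map_inf _ _ _ P.subtype_injective, hmapV, center_map]
        exact le_antisymm (inf_le_inf_left _ inf_le_right)
          (le_inf inf_le_left (le_inf (inf_le_left.trans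
            (fun x hx => hVP (pow_of_mem_omegaOne hV.comm hx).1)) inf_le_right))
      rw [← e, Subgroup.card_map_of_injective P.subtype_injective]
    rw [h1, h2, Nat.card_congr (Subgroup.subgroupOfEquivOfLe hS.core_le).toEquiv]
    exact omega_index hS hV hN hout.power Subgroup.le_normalClosure hz
  set m := maxOmegaCenterOfMinimalCL p P
  have hbdd : BddAbove {k : ℕ | ∃ Q : Subgroup P, IsMinimalCentrallyLarge Q ∧ Nat.card ↥(omegaOneCenter p Q) = k} :=
    ⟨Nat.card P, by rintro k ⟨Q, -, rfl⟩; exact Subgroup.card_le_card_group _⟩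
  let Qual : Subgroup P → Prop := fun R => IsMinimalCentrallyLarge R ∧ Nat.card ↥(omegaOneCenter p R) = m
  have hcore : ∀ R, Qual R → ∃ R', Qual R' ∧ R' ≤ Qx ∧
      (frattini R).map R.subtype ≤ (frattini R').map R'.subtype := by
    intro R hR
    by_cases hRQ : R ≤ Qx
    · exact ⟨R, hR, hRQ, le_rfl⟩
    obtain ⟨h1, h2⟩ := hF.reduce_omega S.isPGroup' hΩ hR.1 hRQ fun R' hR' => hR.2 ▸ le_csSup hbdd ⟨R', hR', rfl⟩
    exact ⟨_, ⟨(hF.reduce hR.1 hRQ).1, h1.trans hR.2⟩, (hF.reduce hR.1 hRQ).2.1, h2⟩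
  set Φ := frattiniOfMinimalCLJoin p P with hΦ
  refine ⟨fun y hy x => ?_⟩
  suffices hle : Φ ≤ ((Φ.map P.subtype).comap (MulAut.conj x).toMonoidHom).comap P.subtype by
    obtain ⟨w, hw, rfl⟩ := hy
    exact hle hw
  refine iSup_le fun R => ?_
  obtain ⟨R', hR', hR'Q, hle'⟩ := hcore R.1 R.2
  refine hle'.trans ?_
  rintro _ ⟨r, hr, rfl⟩
  obtain ⟨L, e, -, -, he⟩ := exists_conj_inside hS hR'Q x
  have hL : Qual L := ⟨isMinimalCentrallyLarge_congr e hR'.1,
    (card_omegaOneCenter_congr e).symm.trans hR'.2⟩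
  have her : e r ∈ frattini L := frattini_le_comap_frattini_of_surjective (φ := e.toMonoidHom) e.surjective hr
  refine ⟨(e r : L), (le_iSup (fun Q : {Q : Subgroup P // Qual Q} => (frattini Q.1).map Q.1.subtype) ⟨L, hL⟩)
    ⟨e r, her, rfl⟩, he r⟩

theorem frattini_trivial {X : Type*} [Group X] [Finite X] (hX : IsPGroup p X)
    (h : frattiniOfMinimalCLJoin p X = ⊥) :
    (∀ Q : Subgroup X, IsMinimalCentrallyLarge Q ↔ Q ∈ maxAbelianSubgroups X) ∧
      ∃ A ∈ maxAbelianSubgroups X, IsElementaryAbelian p A := by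
  obtain ⟨R₁, hR₁⟩ := exists_minimalCL (X := X)
  obtain ⟨R, hR, hm⟩ := Nat.sSup_mem
    (s := {k : ℕ | ∃ Q : Subgroup X, IsMinimalCentrallyLarge Q ∧ Nat.card ↥(omegaOneCenter p Q) = k})
    ⟨_, R₁, hR₁, rfl⟩ ⟨Nat.card X, by rintro k ⟨Q, -, rfl⟩; exact Subgroup.card_le_card_group _⟩
  have hΦ : (frattini R).map R.subtype = ⊥ := le_bot_iff.mp (h ▸
    le_iSup (fun Q : {Q : Subgroup X // IsMinimalCentrallyLarge Q ∧
      Nat.card ↥(omegaOneCenter p Q) = maxOmegaCenterOfMinimalCL p X} => (frattini Q.1).map Q.1.subtype) ⟨R, hR, hm⟩)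
  obtain ⟨hc, hp⟩ := frattini_facts (hX.to_subgroup R)
  rw [hΦ] at hc hp
  have hR' : ⁅R, R⁆ = ⊥ := le_bot_iff.mp (Subgroup.commutator_le.mpr hc)
  refine ⟨abelian_minimal_iff hR hR', R, (abelian_minimal_iff hR hR' R).mp hR, ?_⟩
  refine ⟨Subgroup.le_centralizer_iff_isMulCommutative.mp (Subgroup.commutator_eq_bot_iff_le_centralizer.mp hR'), ?_⟩
  exact fun x hx => Subgroup.mem_bot.mp (hp x hx)

end CfsgLib.PushRankOne
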